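import Groth.Agent.Lib.Goren15.FlatLocal
import Groth.Agent.Lib.RelCyc15.PerfectPull
import Groth.Agent.Lib.H12.FlatComp
import Groth.Prelude.Def_Dual3

/-!
# Gorenstein morphisms of schemes via local rings
-/

universe u

open CategoryTheory Limits AlgebraicGeometry IsLocalRing

noncomputable section

namespace Groth.Agent.Goren15

variable {X Y Z : Scheme.{u}}

/-- The ring of the closed fibre at a point. -/
abbrev FibQuot (f : X ⟶ Y) (x : X) : Type u :=
  X.presheaf.stalk x ⧸ Ideal.map (f.stalkMap x).hom (maximalIdeal (Y.presheaf.stalk (f x)))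

theorem nonempty_fibreStalkEquiv (f : X ⟶ Y) {y : Y} (z : f.fiber y) :
    Nonempty (FibQuot f (f.fiberι y z) ≃+* (f.fiber y).presheaf.stalk z) := by
  have hx := RelCyc15.fiberι_apply f z
  have hker : RingHom.ker ((f.fiberι y).stalkMap z).hom =
      Ideal.map (f.stalkMap (f.fiberι y z)).hom (maximalIdeal (Y.presheaf.stalk (f (f.fiberι y z)))) := by
    rw [← RelCyc15.map_σ_eq f (f.fiberι y z) hx (specializes_of_eq hx)]
    ext b
    exact DivDesc12.stalkMap_fiberι_eq_zero_iff f (f.fiberι y z) hx (specializes_of_eq hx) z rfl b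
  exact ⟨(Ideal.quotEquivOfEq hker.symm).trans
    (RingHom.quotientKerEquivOfSurjective ((f.fiberι y).stalkMap_surjective z))⟩

theorem nonempty_asFiberEquiv (f : X ⟶ Y) (x : X) :
    Nonempty (FibQuot f x ≃+* (f.fiber (f x)).presheaf.stalk (f.asFiber x)) := by
  have key : ∀ (x' : X), f.fiberι (f x) (f.asFiber x) = x' →
      Nonempty (FibQuot f x' ≃+* (f.fiber (f x)).presheaf.stalk (f.asFiber x)) := by
    rintro _ rfl
    exact nonempty_fibreStalkEquiv f (f.asFiber x)
  exact key x (f.fiberι_asFiber x)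

theorem isNoetherianRing_fibQuot (f : X ⟶ Y) (x : X) (h : IsLocallyNoetherian (f.fiber (f x))) :
    IsNoetherianRing (FibQuot f x) := by
  obtain ⟨e⟩ := nonempty_asFiberEquiv f x
  haveI := h
  exact isNoetherianRing_of_ringEquiv _ e.symm

theorem isGorensteinAt_iff (f : X ⟶ Y) (x : X) :
    Dual3.IsGorensteinAt f x ↔
      (f.stalkMap x).hom.Flat ∧ LocCoh.IsGorensteinLocalRing (FibQuot f x) := by
  obtain ⟨e⟩ := nonempty_asFiberEquiv f x
  exact and_congr_right fun _ => (isGorensteinLocalRing_iff_of_ringEquiv e).symm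

/-- Ring form of the transitivity of closed fibres. -/
theorem gorenstein_fibre_comp {A B C : Type u} [CommRing A] [IsLocalRing A] [CommRing B] [IsLocalRing B]
    [CommRing C] [IsLocalRing C] (φ : A →+* B) (ψ : B →+* C) [IsLocalHom φ] [IsLocalHom ψ] (hψ : ψ.Flat)
    (hB : IsNoetherianRing (B ⧸ (maximalIdeal A).map φ))
    (hC : IsNoetherianRing (C ⧸ (maximalIdeal A).map (ψ.comp φ))) :
    LocCoh.IsGorensteinLocalRing (C ⧸ (maximalIdeal A).map (ψ.comp φ)) ↔
      (LocCoh.IsGorensteinLocalRing (B ⧸ (maximalIdeal A).map φ) ∧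
        LocCoh.IsGorensteinLocalRing (C ⧸ (maximalIdeal B).map ψ)) := by
  letI := ψ.toAlgebra
  haveI : Module.Flat B C := hψ
  haveI : IsLocalHom (algebraMap B C) := inferInstanceAs (IsLocalHom ψ)
  let I := (maximalIdeal A).map φ
  let B' := B ⧸ I
  let C' := C ⧸ I.map (algebraMap B C)
  have hI : I ≤ maximalIdeal B := map_maximalIdeal_le φ
  haveI : Nontrivial B' := Ideal.Quotient.nontrivial_iff.2
    (ne_top_of_le_ne_top (maximalIdeal.isMaximal B).ne_top hI)
  haveI : Nontrivial C' := Ideal.Quotient.nontrivial_iff.2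
    (ne_top_of_le_ne_top (maximalIdeal.isMaximal C).ne_top
      ((Ideal.map_mono hI).trans (map_maximalIdeal_le _)))
  haveI : IsLocalRing B' := IsLocalRing.of_surjective' (Ideal.Quotient.mk I) Ideal.Quotient.mk_surjective
  haveI : IsLocalRing C' :=
    IsLocalRing.of_surjective' (Ideal.Quotient.mk (I.map (algebraMap B C))) Ideal.Quotient.mk_surjective
  have hIC : I.map (algebraMap B C) = (maximalIdeal A).map (ψ.comp φ) := Ideal.map_map φ ψ
  haveI : IsNoetherianRing B' := hB
  haveI : IsNoetherianRing C' := isNoetherianRing_of_ringEquiv _ (Ideal.quotEquivOfEq hIC).symm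
  haveI : Module.Flat B' C' := flat_quotient (B := C) I
  haveI : IsLocalHom (algebraMap B' C') := by
    refine ⟨fun b hb => ?_⟩
    obtain ⟨b, rfl⟩ := Ideal.Quotient.mk_surjective b
    haveI : IsLocalHom (Ideal.Quotient.mk (I.map (algebraMap B C))) :=
      IsLocalHom.of_surjective _ Ideal.Quotient.mk_surjective
    exact (isUnit_of_map_unit (algebraMap B C) _
      (isUnit_of_map_unit (Ideal.Quotient.mk (I.map (algebraMap B C))) _ hb)).map _
  have hm : maximalIdeal B' = (maximalIdeal B).map (Ideal.Quotient.mk I) :=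
    (IsLocalRing.eq_maximalIdeal ((Ideal.map_eq_top_or_isMaximal_of_surjective _
      Ideal.Quotient.mk_surjective inferInstance).resolve_left fun h => by
        haveI : IsLocalHom (Ideal.Quotient.mk I) := IsLocalHom.of_surjective _ Ideal.Quotient.mk_surjective
        have h1 := map_maximalIdeal_le (Ideal.Quotient.mk I)
        rw [h, top_le_iff] at h1
        exact (maximalIdeal.isMaximal B').ne_top h1)).symm
  have hmap : (maximalIdeal B').map (algebraMap B' C') =
      ((maximalIdeal B).map (algebraMap B C)).map (Ideal.Quotient.mk (I.map (algebraMap B C))) := by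
    rw [hm]
    refine (Ideal.map_map _ _).trans (Eq.trans ?_ (Ideal.map_map _ _).symm)
    rfl
  let eF : C' ⧸ (maximalIdeal B').map (algebraMap B' C') ≃+* C ⧸ (maximalIdeal B).map ψ :=
    (Ideal.quotEquivOfEq hmap).trans (DoubleQuot.quotQuotEquivQuotOfLE (Ideal.map_mono hI))
  rw [isGorensteinLocalRing_iff_of_ringEquiv (Ideal.quotEquivOfEq hIC).symm,
    gorenstein_flat_local_iff B' C', isGorensteinLocalRing_iff_of_ringEquiv eF]

/-- Gorenstein morphisms compose, and descend along a flat first map. -/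
theorem isGorensteinAt_comp (f : X ⟶ Y) (g : Y ⟶ Z) (x : X)
    (hg : IsLocallyNoetherian (g.fiber (g (f x))))
    (hfg : IsLocallyNoetherian ((f ≫ g).fiber ((f ≫ g) x))) :
    (Dual3.IsGorensteinAt f x → Dual3.IsGorensteinAt g (f x) → Dual3.IsGorensteinAt (f ≫ g) x) ∧
      (Dual3.IsGorensteinAt (f ≫ g) x → (f.stalkMap x).hom.Flat →
        Dual3.IsGorensteinAt f x ∧ Dual3.IsGorensteinAt g (f x)) := by
  have hB := isNoetherianRing_fibQuot g (f x) hg
  have hC0 := isNoetherianRing_fibQuot (f ≫ g) x hfg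
  have hcomp : ((f ≫ g).stalkMap x).hom = (f.stalkMap x).hom.comp (g.stalkMap (f x)).hom := by
    rw [Scheme.Hom.stalkMap_comp]; rfl
  let e : FibQuot (f ≫ g) x ≃+* (X.presheaf.stalk x ⧸ (maximalIdeal (Z.presheaf.stalk (g (f x)))).map
      ((f.stalkMap x).hom.comp (g.stalkMap (f x)).hom)) := Ideal.quotEquivOfEq (by rw [hcomp]; rfl)
  have hC := isNoetherianRing_of_ringEquiv _ e
  simp only [isGorensteinAt_iff]
  constructor
  · rintro ⟨hf, hFf⟩ ⟨hgfl, hFg⟩
    refine ⟨?_, ?_⟩
    · rw [hcomp]; exact RingHom.Flat.comp hgfl hf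
    · rw [isGorensteinLocalRing_iff_of_ringEquiv e, gorenstein_fibre_comp _ _ hf hB hC]
      exact ⟨hFg, hFf⟩
  · rintro ⟨hfgfl, hF⟩ hf
    rw [isGorensteinLocalRing_iff_of_ringEquiv e, gorenstein_fibre_comp _ _ hf hB hC] at hF
    exact ⟨⟨hf, hF.2⟩, H12.flat_stalkMap_of_comp f g x hf hfgfl, hF.1⟩

/-- A flat morphism out of a Gorenstein scheme is Gorenstein, and so is the image local ring. -/
theorem isGorensteinAt_of_flat [IsLocallyNoetherian Y] (f : X ⟶ Y) (x : X)
    (hf : (f.stalkMap x).hom.Flat) (hX : LocCoh.IsGorensteinLocalRing (X.presheaf.stalk x)) :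
    Dual3.IsGorensteinAt f x ∧ LocCoh.IsGorensteinLocalRing (Y.presheaf.stalk (f x)) := by
  rw [isGorensteinAt_iff]
  algebraize [(f.stalkMap x).hom]
  haveI : IsLocalHom (algebraMap (Y.presheaf.stalk (f x)) (X.presheaf.stalk x)) :=
    inferInstanceAs (IsLocalHom (f.stalkMap x).hom)
  haveI := hX
  obtain ⟨h1, h2⟩ := (gorenstein_flat_local_iff (Y.presheaf.stalk (f x)) (X.presheaf.stalk x)).1 hX
  exact ⟨⟨hf, h2⟩, h1⟩

end Groth.Agent.Goren15
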