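import Groth.Agent.Lib.Goren15.LCI

/-!
# Fibres of flat local complete intersections are Gorenstein
-/

universe u

open IsLocalRing TensorProduct
open Groth.Agent.CanElt (KObj kd k0 kmap kmap_kd)
open Groth.Agent.CI2

namespace Groth.Agent.Goren15

theorem exists_deg1 {A : Type u} [CommRing A] : ∀ (l : List A) (z : KObj A A l 1), ∃ r, deg1 l r = z
  | [], z => ⟨0, Subsingleton.elim (α := PUnit.{u + 1}) _ _⟩
  | f :: l, (a, b) => by
    obtain ⟨r, hr⟩ := exists_deg1 l a
    exact ⟨Fin.cons (k0 A A l b) r, Prod.ext hr ((k0 A A l).symm_apply_apply b)⟩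

theorem kd_zero_eq_zero {A : Type u} [CommRing A] (l : List A) (r : Fin l.length → A) :
    kd A A l 0 (deg1 l r) = 0 ↔ ∑ i, r i * l.get i = 0 := by
  rw [← k0_kd_deg1 l r, LinearEquiv.map_eq_zero_iff]

/-- The semilinear map of a ring homomorphism. -/
def ringSlin {A B : Type u} [CommRing A] [CommRing B] (σ : A →+* B) : A →ₛₗ[σ] B where
  toFun := σ
  map_add' := map_add σ
  map_smul' := map_mul σ

theorem kmap_k0_symm {A B : Type u} [CommRing A] [CommRing B] (σ : A →+* B) :
    ∀ (l : List A) (a : A), kmap (ringSlin σ) l 0 ((k0 A A l).symm a) = (k0 B B (l.map σ)).symm (σ a)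
  | [], _ => rfl
  | _ :: l, a => kmap_k0_symm σ l a

theorem exists_kmap_deg1 {A B : Type u} [CommRing A] [CommRing B] (σ : A →+* B) :
    ∀ (l : List A) (r : Fin l.length → A) (r' : Fin (l.map σ).length → B),
      (∀ i, r' i = σ (r (i.cast (List.length_map _)))) →
      kmap (ringSlin σ) l 1 (deg1 l r) = deg1 (l.map σ) r'
  | [], _, _, _ => Subsingleton.elim (α := PUnit.{u + 1}) _ _
  | f :: l, r, r', h => by
    refine Prod.ext (exists_kmap_deg1 σ l (fun i => r i.succ) (fun i => r' i.succ) fun i => h i.succ) ?_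
    exact (kmap_k0_symm σ l (r (Fin.mk 0 (Nat.succ_pos _)))).trans (congrArg _ (h (Fin.mk 0 (Nat.succ_pos _))).symm)

/-- In an algebra with flat quotient by `I` one has `I ∩ J G = J I`. -/
theorem inf_map_eq {A G : Type u} [CommRing A] [CommRing G] [Algebra A G] (I : Ideal G)
    [Module.Flat A (G ⧸ I)] (J : Ideal A) :
    I ⊓ J.map (algebraMap A G) ≤ J.map (algebraMap A G) * I := by
  classical
  rintro x ⟨hxI, hxJ⟩
  have h1 : x ∈ Submodule.span G (Set.range fun a : J => algebraMap A G a) := by
    have : (Set.range fun a : J => algebraMap A G a) = algebraMap A G '' (J : Set A) := by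
      ext; simp
    rw [this]; exact hxJ
  obtain ⟨c, hc⟩ := Finsupp.mem_span_range_iff_exists_finsupp.1 h1
  let e := c.support.equivFin.symm
  have hsum : ∑ i, ((e i : J) : A) • Ideal.Quotient.mk I (c (e i : J)) = 0 := by
    have hx0 : Ideal.Quotient.mk I x = 0 := Ideal.Quotient.eq_zero_iff_mem.2 hxI
    rw [← hx0, ← hc, Finsupp.sum, map_sum, ← Finset.sum_attach c.support]
    refine (Equiv.sum_comp e fun j => ((j : J) : A) • Ideal.Quotient.mk I (c (j : J))).trans ?_
    refine Finset.sum_congr (by simp) fun i _ => ?_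
    rw [Algebra.smul_def, smul_eq_mul, map_mul, mul_comm]
    rfl
  obtain ⟨k, a, y, hy, ha⟩ := Module.Flat.isTrivialRelation_of_sum_smul_eq_zero (R := A) (M := G ⧸ I) hsum
  choose y' hy' using fun j => Ideal.Quotient.mk_surjective (y j)
  have hi : ∀ i, c (e i : J) - ∑ j, algebraMap A G (a i j) * y' j ∈ I := fun i => by
    rw [← Ideal.Quotient.eq]
    refine (hy i).trans ?_
    rw [map_sum]
    refine Finset.sum_congr rfl fun j _ => ?_
    rw [map_mul, hy' j, Algebra.smul_def]
    rfl
  have hx : x = ∑ i, algebraMap A G ((e i : J) : A) * (c (e i : J) - ∑ j, algebraMap A G (a i j) * y' j) := by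
    have hz : ∑ i, algebraMap A G ((e i : J) : A) * ∑ j, algebraMap A G (a i j) * y' j = 0 := by
      simp only [Finset.mul_sum, ← mul_assoc, ← map_mul]
      rw [Finset.sum_comm]
      refine Finset.sum_eq_zero fun j _ => ?_
      rw [← Finset.sum_mul, ← map_sum, ha j, map_zero, zero_mul]
    simp only [mul_sub, Finset.sum_sub_distrib, hz, sub_zero]
    rw [← hc, Finsupp.sum, ← Finset.sum_attach c.support]
    refine Eq.symm ((Equiv.sum_comp e fun j => algebraMap A G ((j : J) : A) * c (j : J)).trans ?_)
    exact Finset.sum_congr (by simp) fun i _ => by rw [smul_eq_mul, mul_comm]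
  rw [hx]
  exact sum_mem fun i _ => Ideal.mul_mem_mul (Ideal.mem_map_of_mem _ (e i : J).2) (hi i)

/-- Vanishing of the first Koszul homology survives reduction when the quotient is flat. -/
theorem exact_reduce {A G G' : Type u} [CommRing A] [CommRing G] [CommRing G'] [Algebra A G]
    (J : Ideal A) (σ : G →+* G') (hσ : Function.Surjective σ)
    (hker : RingHom.ker σ = J.map (algebraMap A G)) (l : List G) [Module.Flat A (G ⧸ Ideal.ofList l)]
    (h : ∀ z, kd G G l 0 z = 0 → ∃ w, kd G G l 1 w = z) :
    ∀ z, kd G' G' (l.map σ) 0 z = 0 → ∃ w, kd G' G' (l.map σ) 1 w = z := by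
  intro z hz
  obtain ⟨r', rfl⟩ := exists_deg1 (l.map σ) z
  rw [kd_zero_eq_zero] at hz
  choose r hr using fun i : Fin l.length => hσ (r' (i.cast (List.length_map _).symm))
  have h1 : ∑ i, r i * l.get i ∈ Ideal.ofList l ⊓ J.map (algebraMap A G) := by
    refine ⟨sum_mem fun i _ => Ideal.mul_mem_left _ _ (Ideal.subset_span (l.get_mem i)), ?_⟩
    show _ ∈ J.map (algebraMap A G)
    rw [← hker, RingHom.mem_ker, map_sum, ← hz, ← Equiv.sum_comp (finCongr (List.length_map σ))]
    refine Finset.sum_congr rfl fun i _ => ?_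
    rw [map_mul, hr]
    simp
  have h2 : ∑ i, r i * l.get i ∈ J.map (algebraMap A G) • Submodule.span G (Set.range l.get) := by
    rw [Set.range_list_get, smul_eq_mul]
    exact inf_map_eq _ J h1
  rw [Submodule.mem_ideal_smul_span_iff_exists_sum] at h2
  obtain ⟨b, hb, hsum⟩ := h2
  have hrel : ∑ i, (r i - b i) * l.get i = 0 := by
    rw [Finsupp.sum_fintype _ (fun i c => c • l.get i) (fun i => zero_smul G _)] at hsum
    simp only [smul_eq_mul] at hsum
    simp only [sub_mul, Finset.sum_sub_distrib, hsum, sub_self]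
  obtain ⟨w, hw⟩ := h _ ((kd_zero_eq_zero l fun i => r i - b i).2 hrel)
  refine ⟨kmap (ringSlin σ) l 2 w, ?_⟩
  rw [← kmap_kd, hw]
  refine exists_kmap_deg1 σ l _ r' fun i => ?_
  have hb0 : σ (b (i.cast (List.length_map _))) = 0 := RingHom.mem_ker.1 (hker.symm ▸ hb _)
  rw [map_sub, hb0, sub_zero, hr]
  rfl

/-- The kernel of the localization of a surjection. -/
theorem ker_localRingHom {R B : Type u} [CommRing R] [CommRing B] (π : R →+* B)
    (hπ : Function.Surjective π) (P : Ideal B) [P.IsPrime] :
    RingHom.ker (Localization.localRingHom (P.comap π) P π rfl) =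
      (RingHom.ker π).map (algebraMap R (Localization.AtPrime (P.comap π))) := by
  refine le_antisymm (fun x hx => ?_) (Ideal.map_le_iff_le_comap.2 fun a ha => ?_)
  · obtain ⟨a, s, rfl⟩ := IsLocalization.exists_mk'_eq (P.comap π).primeCompl x
    rw [RingHom.mem_ker, Localization.localRingHom_mk', IsLocalization.mk'_eq_zero_iff] at hx
    obtain ⟨⟨t, ht⟩, hta⟩ := hx
    obtain ⟨t', rfl⟩ := hπ t
    rw [IsLocalization.mk'_mem_iff,
      ← Ideal.unit_mul_mem_iff_mem _ (IsLocalization.map_units _ (⟨t', ht⟩ : (P.comap π).primeCompl)),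
      ← map_mul]
    refine Ideal.mem_map_of_mem _ ?_
    rw [RingHom.mem_ker, map_mul]
    exact hta
  · show Localization.localRingHom (P.comap π) P π rfl (algebraMap R _ a) = 0
    rw [Localization.localRingHom_to_map, RingHom.mem_ker.1 ha, map_zero]

/-- A local ring of a polynomial ring over a domain at a prime over zero is Gorenstein. -/
theorem isGorensteinLocalRing_mvPolynomial_generic (D : Type u) [CommRing D] [IsDomain D] (n : ℕ)
    (Q : Ideal (MvPolynomial (Fin n) D)) [Q.IsPrime] (hQ : Q.comap MvPolynomial.C = ⊥) :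
    LocCoh.IsGorensteinLocalRing (Localization.AtPrime Q) := by
  let K := FractionRing D
  haveI := isGorensteinRing_of_field K
  haveI hG := isGorensteinRing_mvPolynomial K n
  letI : Algebra (MvPolynomial (Fin n) D) (MvPolynomial (Fin n) K) := (MvPolynomial.map (algebraMap D K)).toAlgebra
  haveI : IsLocalization ((nonZeroDivisors D).map (MvPolynomial.C : D →+* MvPolynomial (Fin n) D))
      (MvPolynomial (Fin n) K) := MvPolynomial.isLocalization _ _
  let M := (nonZeroDivisors D).map (MvPolynomial.C : D →+* MvPolynomial (Fin n) D)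
  have hdisj : Disjoint (M : Set (MvPolynomial (Fin n) D)) (Q : Set (MvPolynomial (Fin n) D)) := by
    rw [Set.disjoint_left]
    rintro _ ⟨d, hd, rfl⟩ hdQ
    have : d ∈ Q.comap MvPolynomial.C := hdQ
    rw [hQ] at this
    exact nonZeroDivisors.ne_zero hd this
  let Q' := Q.map (algebraMap (MvPolynomial (Fin n) D) (MvPolynomial (Fin n) K))
  haveI : Q'.IsPrime := IsLocalization.isPrime_of_isPrime_disjoint M _ Q ‹_› hdisj
  haveI : IsLocalization.AtPrime (Localization.AtPrime Q') Q := by
    have := IsLocalization.isLocalization_isLocalization_atPrime_isLocalization M (Localization.AtPrime Q') Q'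
    convert this
    exact (IsLocalization.under_map_of_isPrime_disjoint M _ ‹_› hdisj).symm
  exact (isGorensteinLocalRing_iff_of_ringEquiv
    (IsLocalization.algEquiv Q.primeCompl (Localization.AtPrime Q) (Localization.AtPrime Q')).toRingEquiv).2
      (hG.isGorensteinLocalRing_localization Q')

set_option maxSynthPendingDepth 3 in
/-- Local rings of the fibres of a flat local complete intersection are Gorenstein. -/
theorem isGorensteinLocalRing_fibre_of_isLCI (A B : Type u) [CommRing A] [CommRing B] [Algebra A B]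
    [Module.Flat A B] (hl : LCI.IsLCI A B) (p : Ideal A) [p.IsPrime] (q : Ideal B) [q.IsPrime]
    (hq : q.comap (algebraMap A B) = p) :
    LocCoh.IsGorensteinLocalRing
      (Localization.AtPrime q ⧸ p.map (algebraMap A (Localization.AtPrime q))) := by
  obtain ⟨-, n, f, hf, hI⟩ := hl
  let P := MvPolynomial (Fin n) A
  let π : P →+* B := f.toRingHom
  let p' := q.comap π
  obtain ⟨g, hg, l, hl, hspan⟩ := hI ⟨p', inferInstance⟩ (Ideal.comap_mono bot_le)
  let G := Localization.Away g
  let L := Localization.AtPrime p'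
  have hle : Submonoid.powers g ≤ p'.primeCompl := Submonoid.powers_le.2 hg
  letI : Algebra G L := (IsLocalization.map L (RingHom.id P) (M := Submonoid.powers g) (T := p'.primeCompl)
    (show Submonoid.powers g ≤ p'.primeCompl.comap (RingHom.id P) from hle) : G →+* L).toAlgebra
  haveI : IsScalarTower P G L := IsScalarTower.of_algebraMap_eq fun x => by
    rw [RingHom.algebraMap_toAlgebra, IsLocalization.map_eq]; rfl
  haveI : IsLocalization (p'.primeCompl.map (algebraMap P G)) L :=
    IsLocalization.isLocalization_of_submonoid_le G L _ _ hle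
  have hex := Ex.localization (B := L) (p'.primeCompl.map (algebraMap P G)) ((isKoszulRegularSeq_iff_ex l).1 hl)
  have hIL : (RingHom.ker π).map (algebraMap P L) = Ideal.ofList (l.map (algebraMap G L)) := by
    rw [IsScalarTower.algebraMap_eq P G L, ← Ideal.map_map, hspan, ← Ideal.map_ofList]
  let ψ : L →ₐ[A] Localization.AtPrime q :=
    { Localization.localRingHom p' q π rfl with
      commutes' := fun a => by
        show Localization.localRingHom p' q π rfl (algebraMap A L a) = _
        rw [IsScalarTower.algebraMap_apply A P L, Localization.localRingHom_to_map,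
          show π (algebraMap A P a) = algebraMap A B a from f.commutes a,
          ← IsScalarTower.algebraMap_apply A B (Localization.AtPrime q)] }
  have hψ : Function.Surjective ψ := RingHom.surjective_localRingHom_of_surjective π hf q
  have hkψ : RingHom.ker ψ = Ideal.ofList (l.map (algebraMap G L)) := by
    rw [← hIL]; exact ker_localRingHom π hf q
  let eb : (L ⧸ Ideal.ofList (l.map (algebraMap G L))) ≃ₐ[A] Localization.AtPrime q :=
    (Ideal.quotientEquivAlgOfEq A hkψ.symm).trans (Ideal.quotientKerAlgEquivOfSurjective hψ)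
  haveI : Module.Flat A (Localization.AtPrime q) := Module.Flat.trans A B _
  haveI : Module.Flat A (L ⧸ Ideal.ofList (l.map (algebraMap G L))) := Module.Flat.of_linearEquiv eb.toLinearEquiv
  let σ := Ideal.Quotient.mk (p.map (algebraMap A L))
  have h0 := exact_reduce p σ Ideal.Quotient.mk_surjective Ideal.mk_ker _ (hex 0)
  -- the ambient ring is Gorenstein
  let D := A ⧸ p
  let π₂ : P →+* MvPolynomial (Fin n) D := MvPolynomial.map (Ideal.Quotient.mk p)
  have hπ₂ : Function.Surjective π₂ := MvPolynomial.map_surjective _ Ideal.Quotient.mk_surjective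
  have hker₂ : RingHom.ker π₂ = p.map (algebraMap A P) := by
    rw [MvPolynomial.ker_map, Ideal.mk_ker]; rfl
  have hp'A : p'.comap (algebraMap A P) = p := by
    rw [← hq, Ideal.comap_comap]
    congr 1
    exact RingHom.ext f.commutes
  have hle₂ : RingHom.ker π₂ ≤ p' := by
    rw [hker₂, ← hp'A]; exact Ideal.map_comap_le
  haveI : (p'.map π₂).IsPrime := Ideal.map_isPrime_of_surjective hπ₂ hle₂
  have hc : (p'.map π₂).comap π₂ = p' := by
    rw [Ideal.comap_map_of_surjective π₂ hπ₂, ← RingHom.ker_eq_comap_bot, sup_eq_left]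
    exact hle₂
  have hbot : (p'.map π₂).comap MvPolynomial.C = (⊥ : Ideal D) := by
    refine eq_bot_iff.2 fun d hd => ?_
    obtain ⟨a, rfl⟩ := Ideal.Quotient.mk_surjective d
    have ha : π₂ (algebraMap A P a) ∈ p'.map π₂ := by
      have : π₂ (algebraMap A P a) = MvPolynomial.C (Ideal.Quotient.mk p a) := MvPolynomial.map_C _ a
      rw [this]; exact hd
    have ha' : a ∈ p := hp'A ▸ (show algebraMap A P a ∈ p' from hc ▸ ha)
    exact Ideal.mem_bot.2 (Ideal.Quotient.eq_zero_iff_mem.2 ha')
  have key : ∀ (Q₀ : Ideal P) [Q₀.IsPrime], Q₀ = p' →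
      Nonempty ((Localization.AtPrime Q₀ ⧸ (RingHom.ker π₂).map (algebraMap P (Localization.AtPrime Q₀)))
        ≃+* Localization.AtPrime (p'.map π₂)) →
      Nonempty ((L ⧸ (RingHom.ker π₂).map (algebraMap P L)) ≃+* Localization.AtPrime (p'.map π₂)) := by
    rintro _ _ rfl h; exact h
  obtain ⟨e₂⟩ := key _ hc (nonempty_localization_quotient_equiv π₂ hπ₂ (p'.map π₂))
  have hpL : p.map (algebraMap A L) = (RingHom.ker π₂).map (algebraMap P L) := by
    rw [hker₂, Ideal.map_map, ← IsScalarTower.algebraMap_eq]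
  haveI hG := (isGorensteinLocalRing_iff_of_ringEquiv ((Ideal.quotEquivOfEq hpL).trans e₂)).2
    (isGorensteinLocalRing_mvPolynomial_generic D n (p'.map π₂) hbot)
  have hmax : p.map (algebraMap A L) ≤ maximalIdeal L := by
    rw [hpL, ← Localization.AtPrime.map_eq_maximalIdeal]
    exact Ideal.map_mono hle₂
  haveI : IsLocalHom σ := IsLocalHom.of_surjective _ Ideal.Quotient.mk_surjective
  have hm : ∀ x ∈ (l.map (algebraMap G L)).map σ, x ∈ maximalIdeal (L ⧸ p.map (algebraMap A L)) := by
    intro x hx
    obtain ⟨y, hy, rfl⟩ := List.mem_map.1 hx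
    have h1 : y ∈ RingHom.ker ψ := hkψ ▸ Ideal.subset_span hy
    exact fun hu => (RingHom.mem_ker.1 h1 ▸ (isUnit_of_map_unit σ y hu).map ψ : IsUnit (0 : Localization.AtPrime q)).ne_zero rfl
  have hfin := isGorensteinLocalRing_quotient_of_exact _ hm h0
  refine (isGorensteinLocalRing_iff_of_ringEquiv ((Ideal.quotEquivOfEq (Ideal.map_ofList σ _).symm).trans
    ((DoubleQuot.quotQuotEquivComm _ _).trans
      (Ideal.quotientEquiv _ _ eb.toRingEquiv ?_)))).1 hfin
  show p.map (algebraMap A _) = Ideal.map eb.toRingEquiv.toRingHom ((p.map (algebraMap A L)).map (Ideal.Quotient.mk _))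
  rw [Ideal.map_map, Ideal.map_map]
  congr 1
  exact RingHom.ext fun a => (eb.commutes a).symm

end Groth.Agent.Goren15
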