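import Groth.Agent.Lib.Goren15.Polynomial
import Mathlib.RingTheory.PolynomialAlgebra
import Mathlib.RingTheory.Localization.BaseChange
import Mathlib.LinearAlgebra.TensorProduct.RightExactness
import Mathlib.FieldTheory.IntermediateField.Adjoin.Basic

/-!
# The Gorenstein property under finitely generated field extensions
-/

universe u

open IsLocalRing Polynomial TensorProduct

noncomputable section

namespace Groth.Agent.Goren15

/-- Gorenstein rings are stable under ring isomorphisms. -/
theorem isGorensteinRing_of_ringEquiv {A B : Type u} [CommRing A] [CommRing B] (e : A ≃+* B)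
    [hA : LocCoh.IsGorensteinRing A] : LocCoh.IsGorensteinRing B := by
  haveI := isNoetherianRing_of_ringEquiv A e
  refine ⟨fun p _ => ?_⟩
  exact (isGorensteinLocalRing_iff_of_ringEquiv (IsLocalization.ringEquivOfRingEquiv
    (Localization.AtPrime (p.comap e)) (Localization.AtPrime p) e (e.map_primeCompl_comap_eq p))).1
      (hA.isGorensteinLocalRing_localization _)

/-- A simple field extension preserves the Gorenstein property of algebras. -/
theorem isGorensteinRing_tensor_simple (F L R : Type u) [Field F] [Field L] [Algebra F L]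
    [CommRing R] [Algebra F R] [LocCoh.IsGorensteinRing R] (x : L)
    (hx : IntermediateField.adjoin F ({x} : Set L) = ⊤) :
    LocCoh.IsGorensteinRing (R ⊗[F] L) := by
  haveI := isGorensteinRing_polynomial R
  by_cases halg : IsIntegral F x
  · have hsurj : Function.Surjective (aeval (R := F) x) := by
      intro z
      have hz : z ∈ Algebra.adjoin F ({x} : Set L) := by
        have h1 := IntermediateField.adjoin_simple_toSubalgebra_of_isAlgebraic halg.isAlgebraic
        rw [hx] at h1
        rw [← h1]
        trivial
      rwa [Algebra.adjoin_singleton_eq_range_aeval] at hz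
    let g : R ⊗[F] F[X] →ₐ[F] R ⊗[F] L := Algebra.TensorProduct.map (AlgHom.id F R) (aeval (R := F) x)
    let π : R[X] →+* R ⊗[F] L := g.toRingHom.comp (polyEquivTensor F R).toRingEquiv.toRingHom
    have hg : Function.Surjective g := LinearMap.lTensor_surjective R
      (g := (aeval (R := F) x).toLinearMap) hsurj
    have hπ : Function.Surjective π := hg.comp (polyEquivTensor F R).surjective
    refine isGorensteinRing_of_monic π hπ ((minpoly F x).map (algebraMap F R))
      ((minpoly.monic halg).map _) ?_
    have hker : RingHom.ker g.toRingHom = Ideal.span {(1 : R) ⊗ₜ[F] minpoly F x} := by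
      have h1 : RingHom.ker g.toRingHom = (RingHom.ker (aeval (R := F) x)).map
          (Algebra.TensorProduct.includeRight : F[X] →ₐ[F] R ⊗[F] F[X]) :=
        Algebra.TensorProduct.lTensor_ker (A := R) (aeval (R := F) x) hsurj
      have h2 : RingHom.ker (aeval (R := F) x) = Ideal.span {minpoly F x} := minpoly.ker_aeval_eq_span_minpoly F x
      rw [h1, h2, Ideal.map_span, Set.image_singleton]
      rfl
    have hcomap : RingHom.ker π =
        Ideal.comap (polyEquivTensor F R).toRingEquiv.toRingHom (RingHom.ker g.toRingHom) :=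
      (RingHom.comap_ker _ _).symm
    rw [hcomap, hker]
    have he : (polyEquivTensor F R).toRingEquiv ((minpoly F x).map (algebraMap F R)) =
        (1 : R) ⊗ₜ[F] minpoly F x := by
      rw [← RingEquiv.eq_symm_apply]
      show _ = (polyEquivTensor F R).symm ((1 : R) ⊗ₜ[F] minpoly F x)
      rw [polyEquivTensor_symm_apply_tmul_eq_smul, one_smul]
    rw [← he, ← Set.image_singleton, ← Ideal.map_span]
    exact Ideal.comap_map_of_bijective _ (polyEquivTensor F R).toRingEquiv.bijective
  · letI : Algebra F[X] L := (aeval (R := F) x).toRingHom.toAlgebra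
    haveI : IsScalarTower F F[X] L := IsScalarTower.of_algebraMap_eq fun r => (aeval_C x r).symm
    have htr : Transcendental F x := fun h => halg h.isIntegral
    haveI : FaithfulSMul F[X] L :=
      (faithfulSMul_iff_algebraMap_injective F[X] L).2 (transcendental_iff_injective.1 htr)
    haveI : IsFractionRing F[X] L := IsFractionRing.of_field F[X] L fun z => by
      have hz : z ∈ IntermediateField.adjoin F ({x} : Set L) := hx ▸ trivial
      exact (IntermediateField.mem_adjoin_simple_iff F z).1 hz
    let φ : R ⊗[F] F[X] →ₐ[R] R ⊗[F] L :=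
      Algebra.TensorProduct.map (AlgHom.id R R) (IsScalarTower.toAlgHom F F[X] L)
    letI : Algebra (R ⊗[F] F[X]) (R ⊗[F] L) := φ.toRingHom.toAlgebra
    haveI : IsScalarTower R (R ⊗[F] F[X]) (R ⊗[F] L) :=
      IsScalarTower.of_algebraMap_eq fun r => (φ.commutes r).symm
    haveI := IsLocalization.tensorProduct_tensorProduct_right (R := F) (S := R)
      (nonZeroDivisors F[X]) L (RingHom.ext fun p => by
        show φ ((1 : R) ⊗ₜ[F] p) = (1 : R) ⊗ₜ[F] algebraMap F[X] L p
        simp [φ])
    haveI := isGorensteinRing_of_ringEquiv (polyEquivTensor F R).toRingEquiv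
    exact isGorensteinRing_of_isLocalization (A := R ⊗[F] F[X])
      ((nonZeroDivisors F[X]).map (Algebra.TensorProduct.includeRight : F[X] →ₐ[F] R ⊗[F] F[X]))

set_option maxSynthPendingDepth 3 in
/-- Finitely generated field extensions preserve the Gorenstein property of algebras. -/
theorem isGorensteinRing_tensor_fieldExt (k L R : Type u) [Field k] [Field L] [Algebra k L]
    (hL : ∃ s : Finset L, IntermediateField.adjoin k (s : Set L) = ⊤) [CommRing R] [Algebra k R]
    [LocCoh.IsGorensteinRing R] : LocCoh.IsGorensteinRing (R ⊗[k] L) := by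
  obtain ⟨s, hs⟩ := hL
  have key : LocCoh.IsGorensteinRing (R ⊗[k] (IntermediateField.adjoin k (s : Set L))) := by
    refine IntermediateField.induction_on_adjoin_finset s
      (fun (K : IntermediateField k L) => LocCoh.IsGorensteinRing (R ⊗[k] ↥K)) ?_ (fun K x _ hK => ?_)
    · let e0 : k ≃ₐ[k] (⊥ : IntermediateField k L) := (IntermediateField.botEquiv k L).symm
      let e1 : R ⊗[k] k ≃ₐ[k] R ⊗[k] (⊥ : IntermediateField k L) :=
        Algebra.TensorProduct.congr (AlgEquiv.refl (R := k) (A₁ := R)) e0
      exact isGorensteinRing_of_ringEquiv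
        ((Algebra.TensorProduct.rid k R R).symm.toRingEquiv.trans e1.toRingEquiv)
    · let M := IntermediateField.adjoin K ({x} : Set L)
      haveI : LocCoh.IsGorensteinRing (↥K ⊗[k] R) :=
        isGorensteinRing_of_ringEquiv (Algebra.TensorProduct.comm k R K).toRingEquiv
      haveI : LocCoh.IsGorensteinRing ((↥K ⊗[k] R) ⊗[K] M) :=
        isGorensteinRing_tensor_simple K M (↥K ⊗[k] R) (⟨x, IntermediateField.mem_adjoin_simple_self K x⟩ : M)
          (by
            rw [← IntermediateField.map_injective M.val |>.eq_iff, IntermediateField.adjoin_map]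
            simp [← AlgHom.fieldRange_eq_map, M])
      let e1 : (↥K ⊗[k] R) ⊗[K] M ≃+* M ⊗[k] R :=
        (Algebra.TensorProduct.comm K (↥K ⊗[k] R) M).toRingEquiv.trans
          (Algebra.TensorProduct.cancelBaseChange k K M M R).toRingEquiv
      exact @isGorensteinRing_of_ringEquiv ((↥K ⊗[k] R) ⊗[K] M) (R ⊗[k] ↥M) _ _
        (e1.trans (Algebra.TensorProduct.comm k M R).toRingEquiv) inferInstance
  rw [hs] at key
  let e2 : R ⊗[k] (⊤ : IntermediateField k L) ≃ₐ[k] R ⊗[k] L :=
    Algebra.TensorProduct.congr (AlgEquiv.refl (R := k) (A₁ := R)) IntermediateField.topEquiv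
  exact @isGorensteinRing_of_ringEquiv (R ⊗[k] ↥(⊤ : IntermediateField k L)) (R ⊗[k] L) _ _ e2.toRingEquiv key

end Groth.Agent.Goren15

namespace Groth.Agent.Goren15

/-- A field is a Gorenstein ring. -/
theorem isGorensteinRing_of_field (K : Type u) [Field K] : LocCoh.IsGorensteinRing K := by
  refine ⟨fun p _ => ?_⟩
  have hp : p = ⊥ := (Ideal.eq_bot_or_top p).resolve_right (Ideal.IsPrime.ne_top ‹_›)
  subst hp
  letI : Field (Localization.AtPrime (⊥ : Ideal K)) := IsField.toField <| by
    rw [IsLocalRing.isField_iff_maximalIdeal_eq, ← Localization.AtPrime.map_eq_maximalIdeal, Ideal.map_bot]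
  exact gorenstein_of_injective _ (Module.injective_of_isSemisimpleRing _ _)

set_option maxSynthPendingDepth 3 in
/-- A finitely generated field extension does not change Gorenstein local rings lying over the
closed point. -/
theorem isGorensteinLocalRing_baseChange_iff (k k' B : Type u) [Field k] [Field k'] [Algebra k k']
    (hfg : ∃ s : Finset k', IntermediateField.adjoin k (s : Set k') = ⊤) [CommRing B] [IsLocalRing B]
    [IsNoetherianRing B] [Algebra k B] (Q : Ideal (B ⊗[k] k')) [Q.IsPrime]
    (hQ : Q.comap (algebraMap B (B ⊗[k] k')) = maximalIdeal B)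
    [IsNoetherianRing (Localization.AtPrime Q)] :
    LocCoh.IsGorensteinLocalRing (Localization.AtPrime Q) ↔ LocCoh.IsGorensteinLocalRing B := by
  haveI : Module.Flat B (Localization.AtPrime Q) := Module.Flat.trans B (B ⊗[k] k') _
  haveI : IsLocalHom (algebraMap B (Localization.AtPrime Q)) := ⟨fun a ha => by
    rw [IsScalarTower.algebraMap_apply B (B ⊗[k] k') (Localization.AtPrime Q),
      IsLocalization.AtPrime.isUnit_to_map_iff (Localization.AtPrime Q) Q] at ha
    by_contra hn
    exact ha (show a ∈ Q.comap (algebraMap B (B ⊗[k] k')) from hQ.symm ▸ hn)⟩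
  rw [gorenstein_flat_local_iff B (Localization.AtPrime Q), and_iff_left_iff_imp]
  intro _
  haveI := isGorensteinRing_of_field (ResidueField B)
  haveI hG : LocCoh.IsGorensteinRing (ResidueField B ⊗[k] k') :=
    isGorensteinRing_tensor_fieldExt k k' (ResidueField B) hfg
  let g : B →ₐ[k] ResidueField B := IsScalarTower.toAlgHom k B (ResidueField B)
  have hgs : Function.Surjective g := residue_surjective
  let π : B ⊗[k] k' →+* ResidueField B ⊗[k] k' :=
    (Algebra.TensorProduct.map g (AlgHom.id k k')).toRingHom
  have hπ : Function.Surjective π := LinearMap.rTensor_surjective k' (g := g.toLinearMap) hgs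
  have hker : RingHom.ker π = (maximalIdeal B).map (algebraMap B (B ⊗[k] k')) := by
    have h1 : RingHom.ker π = (RingHom.ker g).map
        (Algebra.TensorProduct.includeLeft : B →ₐ[k] B ⊗[k] k') :=
      Algebra.TensorProduct.rTensor_ker g hgs
    rw [h1, show RingHom.ker g = maximalIdeal B from ker_residue]
    rfl
  have hle : RingHom.ker π ≤ Q := by
    rw [hker, ← hQ]; exact Ideal.map_comap_le
  haveI : (Q.map π).IsPrime := Ideal.map_isPrime_of_surjective hπ hle
  have hQ' : (Q.map π).comap π = Q := by
    rw [Ideal.comap_map_of_surjective π hπ, ← RingHom.ker_eq_comap_bot, sup_eq_left]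
    exact hle
  have key : ∀ (Q₀ : Ideal (B ⊗[k] k')) [Q₀.IsPrime], Q₀ = Q →
      Nonempty ((Localization.AtPrime Q₀ ⧸ (RingHom.ker π).map (algebraMap _ (Localization.AtPrime Q₀)))
        ≃+* Localization.AtPrime (Q.map π)) →
      Nonempty ((Localization.AtPrime Q ⧸ (RingHom.ker π).map (algebraMap _ (Localization.AtPrime Q)))
        ≃+* Localization.AtPrime (Q.map π)) := by
    rintro _ _ rfl h; exact h
  obtain ⟨e⟩ := key _ hQ' (nonempty_localization_quotient_equiv π hπ (Q.map π))
  refine (isGorensteinLocalRing_iff_of_ringEquiv ((Ideal.quotEquivOfEq ?_).trans e)).2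
    (hG.isGorensteinLocalRing_localization _)
  rw [hker, Ideal.map_map, ← IsScalarTower.algebraMap_eq]

/-- A finitely generated field extension of a Noetherian algebra is Noetherian. -/
theorem isNoetherianRing_tensor_fieldExt (k L B : Type u) [Field k] [Field L] [Algebra k L]
    [CommRing B] [IsNoetherianRing B] [Algebra k B] [Algebra.EssFiniteType k L] :
    IsNoetherianRing (B ⊗[k] L) :=
  Algebra.EssFiniteType.isNoetherianRing B (B ⊗[k] L)

/-- Finitely generated field extensions are essentially of finite type. -/
theorem essFiniteType_of_fg (k L : Type u) [Field k] [Field L] [Algebra k L]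
    (h : ∃ s : Finset L, IntermediateField.adjoin k (s : Set L) = ⊤) : Algebra.EssFiniteType k L := by
  obtain ⟨s, hs⟩ := h
  haveI : Algebra.EssFiniteType k (⊤ : IntermediateField k L) := IntermediateField.essFiniteType_iff.2 ⟨s, hs⟩
  exact Algebra.EssFiniteType.of_surjective (IntermediateField.topEquiv : (⊤ : IntermediateField k L) ≃ₐ[k] L).toAlgHom
    (IntermediateField.topEquiv).surjective

end Groth.Agent.Goren15
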