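import Groth.Agent.Lib.Goren.Basic
import Mathlib.Algebra.Category.ModuleCat.ChangeOfRings
import Mathlib.CategoryTheory.Preadditive.Injective.Basic

/-!
# Gorenstein local rings are preserved by ring isomorphisms
-/

universe u

open CategoryTheory

noncomputable section

namespace Groth.Agent.Goren15

variable {C D : Type*} [Category C] [Category D] [Abelian C] [Abelian D] [EnoughInjectives C]

/-- An equivalence of abelian categories preserves injective dimension. -/
theorem hasInjectiveDimensionLT_map (E : C ≌ D) [E.functor.Additive] (n : ℕ) :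
    ∀ X : C, HasInjectiveDimensionLT X (n + 1) → HasInjectiveDimensionLT (E.functor.obj X) (n + 1) := by
  induction n with
  | zero =>
    intro X hX
    rw [zero_add, ← injective_iff_hasInjectiveDimensionLT_one] at hX ⊢
    exact (E.map_injective_iff X).2 hX
  | succ n ih =>
    intro X hX
    obtain ⟨P⟩ := EnoughInjectives.presentation X
    have := P.injective
    have hS : (ShortComplex.mk P.f (Limits.cokernel.π P.f) (Limits.cokernel.condition P.f)).ShortExact :=
      { exact := ShortComplex.exact_cokernel P.f }
    have h3 := ih _ ((hS.hasInjectiveDimensionLT_X₃_iff n P.injective).2 hX)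
    exact ((hS.map_of_exact E.functor).hasInjectiveDimensionLT_X₃_iff n
      ((E.map_injective_iff P.J).2 P.injective)).1 h3

/-- Gorenstein local rings are preserved by ring isomorphisms. -/
theorem isGorensteinLocalRing_of_ringEquiv {R S : Type u} [CommRing R] [CommRing S]
    [h : LocCoh.IsGorensteinLocalRing R] (e : R ≃+* S) : LocCoh.IsGorensteinLocalRing S := by
  haveI : IsNoetherianRing S := isNoetherianRing_of_ringEquiv R e
  haveI : IsLocalRing S := e.isLocalRing
  obtain ⟨n, hn⟩ := h.exists_hasInjectiveDimensionLT
  let E := ModuleCat.restrictScalarsEquivalenceOfRingEquiv.{u} e.symm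
  haveI : E.functor.Additive := inferInstanceAs (ModuleCat.restrictScalars e.symm.toRingHom).Additive
  have h1 := hasInjectiveDimensionLT_map E n (ModuleCat.of R R)
    (hasInjectiveDimensionLT_of_ge _ n (n + 1) n.le_succ)
  refine { exists_hasInjectiveDimensionLT := ⟨n + 1, ?_⟩ }
  have key : ∀ (s : S) (r : R), e (e.symm s * r) = s * e r := fun s r => by simp
  let f0 : ↑(E.functor.obj (ModuleCat.of R R)) ≃ₗ[S] S :=
    { toFun := fun r => e r
      invFun := fun s => e.symm s
      map_add' := fun a b => map_add e a b
      map_smul' := fun s a => key s a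
      left_inv := fun a => e.symm_apply_apply a
      right_inv := fun a => e.apply_symm_apply a }
  let f : E.functor.obj (ModuleCat.of R R) ≅ ModuleCat.of S S := f0.toModuleIso
  exact hasInjectiveDimensionLT_of_iso f (n + 1)

theorem isGorensteinLocalRing_iff_of_ringEquiv {R S : Type u} [CommRing R] [CommRing S]
    (e : R ≃+* S) : LocCoh.IsGorensteinLocalRing R ↔ LocCoh.IsGorensteinLocalRing S :=
  ⟨fun h => isGorensteinLocalRing_of_ringEquiv (h := h) e,
    fun h => isGorensteinLocalRing_of_ringEquiv (h := h) e.symm⟩

end Groth.Agent.Goren15
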