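import Groth.Agent.Lib.Goren15.FieldExt
import Groth.Agent.Lib.Goren15.Scheme
import Groth.Agent.Lib.GeomRed18.Scheme
import Groth.Agent.Lib.FlatH4.FlatComp
import Groth.Agent.Lib.Descend.PointLocal
import Mathlib.AlgebraicGeometry.Morphisms.FiniteType

/-!
# The Gorenstein property at a point under base change
-/

universe u

open CategoryTheory CategoryTheory.Limits AlgebraicGeometry IsLocalRing TensorProduct

namespace Groth.Agent.Goren15

set_option maxSynthPendingDepth 3 in
/-- Gorensteinness of localizations under a finitely generated field extension. -/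
theorem isGorensteinLocalRing_atPrime_baseChange_iff (k k' B : Type u) [Field k] [Field k'] [Algebra k k']
    (hfg : ∃ s : Finset k', IntermediateField.adjoin k (s : Set k') = ⊤) [CommRing B] [IsNoetherianRing B]
    [Algebra k B] (Q : Ideal (B ⊗[k] k')) [Q.IsPrime] :
    LocCoh.IsGorensteinLocalRing (Localization.AtPrime Q) ↔
      LocCoh.IsGorensteinLocalRing (Localization.AtPrime (Q.comap (algebraMap B (B ⊗[k] k')))) := by
  let p := Q.comap (algebraMap B (B ⊗[k] k'))
  let Bp := Localization.AtPrime p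
  let M := Algebra.algebraMapSubmonoid (B ⊗[k] k') p.primeCompl
  let φ : B ⊗[k] k' →ₐ[k] Bp ⊗[k] k' :=
    Algebra.TensorProduct.map (IsScalarTower.toAlgHom k B Bp) (AlgHom.id k k')
  letI : Algebra (B ⊗[k] k') (Bp ⊗[k] k') := φ.toRingHom.toAlgebra
  haveI : IsScalarTower B (B ⊗[k] k') (Bp ⊗[k] k') := IsScalarTower.of_algebraMap_eq fun b => by
    show _ = φ (b ⊗ₜ[k] (1 : k'))
    simp [φ, Bp, Algebra.TensorProduct.algebraMap_apply]
  haveI : IsLocalization M (Bp ⊗[k] k') :=
    IsLocalization.tensorProduct_tensorProduct k k' p.primeCompl Bp (RingHom.ext fun x => by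
      show φ ((1 : B) ⊗ₜ[k] x) = (1 : Bp) ⊗ₜ[k] x
      simp [φ])
  have hdisj : Disjoint (M : Set (B ⊗[k] k')) (Q : Set (B ⊗[k] k')) := by
    rw [Set.disjoint_left]
    rintro _ ⟨b, hb, rfl⟩ hbQ
    exact hb hbQ
  let Q' : Ideal (Bp ⊗[k] k') := Q.map (algebraMap (B ⊗[k] k') (Bp ⊗[k] k'))
  haveI : Q'.IsPrime := IsLocalization.isPrime_of_isPrime_disjoint M _ Q ‹_› hdisj
  have hcomap : Q'.comap (algebraMap (B ⊗[k] k') (Bp ⊗[k] k')) = Q :=
    IsLocalization.under_map_of_isPrime_disjoint M _ ‹_› hdisj
  have hmax : Q'.comap (algebraMap Bp (Bp ⊗[k] k')) = maximalIdeal Bp := by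
    rw [← IsLocalization.map_under p.primeCompl Bp (Q'.comap (algebraMap Bp (Bp ⊗[k] k'))),
      ← Localization.AtPrime.map_eq_maximalIdeal]
    congr 1
    show (Q'.comap (algebraMap Bp (Bp ⊗[k] k'))).comap (algebraMap B Bp) = p
    rw [Ideal.comap_comap, ← IsScalarTower.algebraMap_eq B Bp (Bp ⊗[k] k'),
      IsScalarTower.algebraMap_eq B (B ⊗[k] k') (Bp ⊗[k] k'), ← Ideal.comap_comap, hcomap]
  haveI := essFiniteType_of_fg k k' hfg
  haveI := isNoetherianRing_tensor_fieldExt k k' Bp
  haveI : IsNoetherianRing (Localization.AtPrime Q') :=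
    IsLocalization.isNoetherianRing Q'.primeCompl _ inferInstance
  haveI : IsLocalization.AtPrime (Localization.AtPrime Q') Q := by
    have := IsLocalization.isLocalization_isLocalization_atPrime_isLocalization M (Localization.AtPrime Q') Q'
    convert this
    exact hcomap.symm
  rw [← isGorensteinLocalRing_baseChange_iff k k' Bp hfg Q' hmax]
  exact isGorensteinLocalRing_iff_of_ringEquiv
    (IsLocalization.algEquiv Q.primeCompl (Localization.AtPrime Q) (Localization.AtPrime Q')).toRingEquiv

attribute [local instance] GeomRed.secAlgebra in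
set_option maxSynthPendingDepth 3 in
/-- Gorensteinness of a stalk under a field extension, from the affine statement. -/
theorem isGorensteinLocalRing_stalk_bc_iff {k K : Type u} [Field k] [Field K] [Algebra k K]
    {F G : Scheme.{u}} {p : F ⟶ Spec (CommRingCat.of k)} {q : G ⟶ Spec (CommRingCat.of K)}
    {fst : G ⟶ F} (sq : IsPullback fst q p (Spec.map (CommRingCat.ofHom (algebraMap k K)))) (z : G)
    (hiff : letI : F.Over (Spec (CommRingCat.of k)) := ⟨p⟩; ∀ (W : F.Opens), IsAffineOpen W →
      ∀ (Q : Ideal (Γ(F, W) ⊗[k] K)) [Q.IsPrime], LocCoh.IsGorensteinLocalRing (Localization.AtPrime Q) ↔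
        LocCoh.IsGorensteinLocalRing (Localization.AtPrime (Q.comap (algebraMap Γ(F, W) (Γ(F, W) ⊗[k] K))))) :
    LocCoh.IsGorensteinLocalRing (G.presheaf.stalk z) ↔
      LocCoh.IsGorensteinLocalRing (F.presheaf.stalk (fst z)) := by
  letI : F.Over (Spec (CommRingCat.of k)) := ⟨p⟩
  let e : G ≅ Curv2.bc k F K := sq.isoPullback
  rw [show fst = e.hom ≫ Curv2.bcFst k F K from sq.isoPullback_hom_fst.symm, Scheme.Hom.comp_apply,
    isGorensteinLocalRing_iff_of_ringEquiv (asIso (e.hom.stalkMap z)).commRingCatIsoToRingEquiv.symm]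
  generalize e.hom z = z'
  obtain ⟨W, hW, hx, -⟩ :=
    exists_isAffineOpen_mem_and_subset (X := F) (x := Curv2.bcFst k F K z') (U := ⊤) trivial
  obtain ⟨ι, hι, hfst, hr⟩ := GeomRed.exists_chart (k := k) hW K
  haveI := hι
  obtain ⟨Q, rfl⟩ : z' ∈ Set.range ι := hr.ge hx
  rw [isGorensteinLocalRing_iff_of_ringEquiv (asIso (ι.stalkMap Q)).commRingCatIsoToRingEquiv,
    isGorensteinLocalRing_iff_of_ringEquiv
      (Spec.stalkIso (CommRingCat.of (Γ(F, W) ⊗[k] K)) Q).commRingCatIsoToRingEquiv, hfst,
    isGorensteinLocalRing_iff_of_ringEquiv (asIso (hW.fromSpec.stalkMap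
      (PrimeSpectrum.comap (algebraMap Γ(F, W) (Γ(F, W) ⊗[k] K)) Q))).commRingCatIsoToRingEquiv,
    isGorensteinLocalRing_iff_of_ringEquiv (Spec.stalkIso Γ(F, W)
      (PrimeSpectrum.comap (algebraMap Γ(F, W) (Γ(F, W) ⊗[k] K)) Q)).commRingCatIsoToRingEquiv]
  exact hiff W hW Q.asIdeal

set_option maxSynthPendingDepth 3 in
/-- Gorensteinness of a stalk under a finitely generated field extension. -/
theorem isGorensteinLocalRing_stalk_fieldExt_iff {k K : Type u} [Field k] [Field K] [Algebra k K]
    (hfg : ∃ s : Finset K, IntermediateField.adjoin k (s : Set K) = ⊤) {F G : Scheme.{u}}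
    [IsLocallyNoetherian F] {p : F ⟶ Spec (CommRingCat.of k)} {q : G ⟶ Spec (CommRingCat.of K)}
    {fst : G ⟶ F} (sq : IsPullback fst q p (Spec.map (CommRingCat.ofHom (algebraMap k K)))) (z : G) :
    LocCoh.IsGorensteinLocalRing (G.presheaf.stalk z) ↔
      LocCoh.IsGorensteinLocalRing (F.presheaf.stalk (fst z)) := by
  refine isGorensteinLocalRing_stalk_bc_iff sq z fun W hW Q _ => ?_
  letI : F.Over (Spec (CommRingCat.of k)) := ⟨p⟩
  letI := GeomRed.secAlgebra k F W
  haveI : IsNoetherianRing Γ(F, W) := IsLocallyNoetherian.component_noetherian ⟨W, hW⟩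
  exact isGorensteinLocalRing_atPrime_baseChange_iff k K Γ(F, W) hfg Q

/-- The residue field extension of a morphism locally of finite type is finitely generated. -/
theorem fg_residueFieldMap {X Y : Scheme.{u}} (g : X ⟶ Y) [LocallyOfFiniteType g] (x : X) :
    letI := (g.residueFieldMap x).hom.toAlgebra
    ∃ s : Finset (X.residueField x), IntermediateField.adjoin (Y.residueField (g x)) (s : Set (X.residueField x)) = ⊤ := by
  letI := (g.residueFieldMap x).hom.toAlgebra
  letI := (g.stalkMap x).hom.toAlgebra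
  letI : Algebra (Y.presheaf.stalk (g x)) (X.residueField x) :=
    ((X.residue x).hom.comp (g.stalkMap x).hom).toAlgebra
  letI : Algebra (X.presheaf.stalk x) (X.residueField x) := (X.residue x).hom.toAlgebra
  letI : Algebra (Y.presheaf.stalk (g x)) (Y.residueField (g x)) := (Y.residue (g x)).hom.toAlgebra
  haveI : IsScalarTower (Y.presheaf.stalk (g x)) (X.presheaf.stalk x) (X.residueField x) :=
    IsScalarTower.of_algebraMap_eq fun _ => rfl
  haveI : IsScalarTower (Y.presheaf.stalk (g x)) (Y.residueField (g x)) (X.residueField x) :=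
    IsScalarTower.of_algebraMap_eq fun a => congrArg (fun φ => φ a) (congrArg CommRingCat.Hom.hom (Scheme.residue_residueFieldMap g x).symm)
  haveI : Algebra.EssFiniteType (Y.presheaf.stalk (g x)) (X.presheaf.stalk x) :=
    LocallyOfFiniteType.stalkMap g x
  haveI : Algebra.EssFiniteType (X.presheaf.stalk x) (X.residueField x) :=
    Algebra.EssFiniteType.of_surjective (Algebra.ofId _ _) residue_surjective
  haveI := Algebra.EssFiniteType.comp (Y.presheaf.stalk (g x)) (X.presheaf.stalk x) (X.residueField x)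
  haveI := Algebra.EssFiniteType.of_comp (Y.presheaf.stalk (g x)) (Y.residueField (g x)) (X.residueField x)
  haveI : Algebra.EssFiniteType (Y.residueField (g x)) (⊤ : IntermediateField (Y.residueField (g x)) (X.residueField x)) :=
    Algebra.EssFiniteType.of_surjective IntermediateField.topEquiv.symm.toAlgHom
      IntermediateField.topEquiv.symm.surjective
  exact IntermediateField.essFiniteType_iff.1 inferInstance

/-- The Gorenstein condition on closed fibres is insensitive to a base change locally of finite type. -/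
theorem gorenstein_fibre_baseChange {X Y X' Y' : Scheme.{u}} {f : X ⟶ Y} {g : Y' ⟶ Y} {f' : X' ⟶ Y'}
    {g' : X' ⟶ X} (hsq : IsPullback g' f' f g) [LocallyOfFiniteType g] (x' : X')
    (hf : IsLocallyNoetherian (f.fiber (g (f' x')))) :
    LocCoh.IsGorensteinLocalRing ((f'.fiber (f' x')).presheaf.stalk (f'.asFiber x')) ↔
      LocCoh.IsGorensteinLocalRing ((f.fiber (f (g' x'))).presheaf.stalk (f.asFiber (g' x'))) := by
  letI := (g.residueFieldMap (f' x')).hom.toAlgebra
  have sq := isPullback_fiberToSpecResidueField_of_isPullback hsq (f' x')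
  haveI : IsLocallyNoetherian (pullback f (Y.fromSpecResidueField (g (f' x')))) := hf
  refine (isGorensteinLocalRing_stalk_fieldExt_iff (fg_residueFieldMap g (f' x')) sq (f'.asFiber x')).trans ?_
  have hy : f (g' x') = g (f' x') := by
    rw [← Scheme.Hom.comp_apply, hsq.w]; rfl
  have key : ∀ (y : Y) (w : f.fiber y), f (g' x') = y → f.fiberι y w = g' x' →
      (LocCoh.IsGorensteinLocalRing ((f.fiber y).presheaf.stalk w) ↔
        LocCoh.IsGorensteinLocalRing ((f.fiber (f (g' x'))).presheaf.stalk (f.asFiber (g' x')))) := by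
    rintro _ w rfl h
    rw [(f.fiberι (f (g' x'))).isEmbedding.injective (h.trans (f.fiberι_asFiber _).symm)]
  have key2 : ∀ μ : f'.fiber (f' x') ⟶ f.fiber (g (f' x')),
      μ ≫ f.fiberι (g (f' x')) = f'.fiberι (f' x') ≫ g' →
      (LocCoh.IsGorensteinLocalRing ((f.fiber (g (f' x'))).presheaf.stalk (μ (f'.asFiber x'))) ↔
        LocCoh.IsGorensteinLocalRing ((f.fiber (f (g' x'))).presheaf.stalk (f.asFiber (g' x')))) := by
    intro μ hμ
    refine key _ _ hy ?_
    rw [← Scheme.Hom.comp_apply, hμ, Scheme.Hom.comp_apply, f'.fiberι_asFiber]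
  exact key2 _ (pullback.lift_fst _ _ _)

/-- Gorenstein morphisms under base change. -/
theorem isGorensteinAt_baseChange {X Y X' Y' : Scheme.{u}} (f : X ⟶ Y) (g : Y' ⟶ Y) (f' : X' ⟶ Y')
    (g' : X' ⟶ X) (hsq : IsPullback g' f' f g) [LocallyOfFiniteType g] (x' : X')
    (hf : IsLocallyNoetherian (f.fiber (g (f' x')))) :
    (Dual3.IsGorensteinAt f (g' x') → Dual3.IsGorensteinAt f' x') ∧
      ((f.stalkMap (g' x')).hom.Flat → Dual3.IsGorensteinAt f' x' → Dual3.IsGorensteinAt f (g' x')) ∧
      ((g.stalkMap (f' x')).hom.Flat → Dual3.IsGorensteinAt f' x' → Dual3.IsGorensteinAt f (g' x')) := by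
  have h := gorenstein_fibre_baseChange hsq x' hf
  refine ⟨fun H => ⟨FlatH4.flat_stalkMap_baseChange hsq.flip x' H.1, h.2 H.2⟩,
    fun hfl H => ⟨hfl, h.1 H.2⟩, fun hg H => ⟨?_, h.1 H.2⟩⟩
  refine Descend.flat_stalkMap_of_comp g' f x' (FlatH4.flat_stalkMap_baseChange hsq x' hg) ?_
  have h1 : ((f' ≫ g).stalkMap x').hom.Flat := by
    rw [Scheme.Hom.stalkMap_comp]
    exact RingHom.Flat.comp hg H.1
  rw [← hsq.w] at h1
  exact h1

end Groth.Agent.Goren15

namespace Groth.Agent.Goren15

set_option maxSynthPendingDepth 3 in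
/-- An element of a base change along a field extension comes from a finitely generated one. -/
theorem exists_fg_intermediateField (k k' C : Type u) [Field k] [Field k'] [Algebra k k'] [CommRing C]
    [Algebra k C] (z : C ⊗[k] k') :
    ∃ s : Finset k', ∀ L : IntermediateField k k', (s : Set k') ⊆ L →
      z ∈ Set.range (Algebra.TensorProduct.map (AlgHom.id k C) L.val) := by
  classical
  induction z with
  | zero => exact ⟨∅, fun L _ => ⟨0, map_zero _⟩⟩
  | tmul c a =>
    exact ⟨{a}, fun L hL => ⟨c ⊗ₜ ⟨a, hL (Finset.mem_singleton_self a)⟩, rfl⟩⟩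
  | add x y hx hy =>
    obtain ⟨s, hs⟩ := hx
    obtain ⟨t, ht⟩ := hy
    refine ⟨s ∪ t, fun L hL => ?_⟩
    rw [Finset.coe_union, Set.union_subset_iff] at hL
    obtain ⟨a, ha⟩ := hs L hL.1
    obtain ⟨b, hb⟩ := ht L hL.2
    exact ⟨a + b, by rw [map_add, ha, hb]⟩

set_option maxSynthPendingDepth 3 in
/-- Gorensteinness of localizations of an algebra of finite type under any field extension. -/
theorem isGorensteinLocalRing_atPrime_fieldExt_iff (k k' C : Type u) [Field k] [Field k'] [Algebra k k']
    [CommRing C] [Algebra k C] [Algebra.FiniteType k C] (Q : Ideal (C ⊗[k] k')) [Q.IsPrime] :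
    LocCoh.IsGorensteinLocalRing (Localization.AtPrime Q) ↔
      LocCoh.IsGorensteinLocalRing (Localization.AtPrime (Q.comap (algebraMap C (C ⊗[k] k')))) := by
  classical
  haveI : IsNoetherianRing C := Algebra.FiniteType.isNoetherianRing k C
  haveI : IsNoetherianRing (k' ⊗[k] C) := Algebra.FiniteType.isNoetherianRing k' (k' ⊗[k] C)
  haveI : IsNoetherianRing (C ⊗[k] k') :=
    isNoetherianRing_of_ringEquiv _ (Algebra.TensorProduct.comm k k' C).toRingEquiv
  obtain ⟨g, hg⟩ := (IsNoetherian.noetherian Q : Submodule.FG Q)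
  choose s hs using fun z : C ⊗[k] k' => exists_fg_intermediateField k k' C z
  let L := IntermediateField.adjoin k ((g.biUnion s : Finset k') : Set k')
  let T := C ⊗[k] L
  haveI hL : ∃ t : Finset L, IntermediateField.adjoin k (t : Set L) = ⊤ := by
    haveI : Algebra.EssFiniteType k L := IntermediateField.essFiniteType_iff.2 ⟨g.biUnion s, rfl⟩
    haveI : Algebra.EssFiniteType k (⊤ : IntermediateField k L) :=
      Algebra.EssFiniteType.of_surjective IntermediateField.topEquiv.symm.toAlgHom
        IntermediateField.topEquiv.symm.surjective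
    exact IntermediateField.essFiniteType_iff.1 inferInstance
  let φ : T →ₐ[k] C ⊗[k] k' := Algebra.TensorProduct.map (AlgHom.id k C) L.val
  letI : Algebra T (C ⊗[k] k') := φ.toRingHom.toAlgebra
  haveI : IsScalarTower C T (C ⊗[k] k') := IsScalarTower.of_algebraMap_eq fun c => by
    show _ = φ (c ⊗ₜ[k] (1 : L))
    simp [φ, T, Algebra.TensorProduct.algebraMap_apply]
  have hflat : φ.toRingHom.Flat :=
    RingHom.Flat.tensorProductMap (f := AlgHom.id k C) (g := L.val)
      (RingHom.Flat.of_bijective Function.bijective_id)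
      (RingHom.flat_algebraMap_iff.2 (inferInstance : Module.Flat L k'))
  let qL := Q.comap (algebraMap T (C ⊗[k] k'))
  have hQ : qL.map (algebraMap T (C ⊗[k] k')) = Q := by
    refine le_antisymm Ideal.map_comap_le ?_
    conv_lhs => rw [← hg]
    rw [Submodule.span_le]
    intro z hz
    obtain ⟨t, ht⟩ := hs z L (Set.Subset.trans (Finset.coe_subset.2 (Finset.subset_biUnion_of_mem s hz))
      (IntermediateField.subset_adjoin k _))
    rw [← ht]
    refine Ideal.mem_map_of_mem _ ?_
    show φ t ∈ Q
    rw [show φ t = z from ht, ← hg]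
    exact Submodule.subset_span hz
  haveI := essFiniteType_of_fg k L hL
  haveI : IsNoetherianRing T := isNoetherianRing_tensor_fieldExt k L C
  let ψ := Localization.localRingHom qL Q (algebraMap T (C ⊗[k] k')) rfl
  letI := ψ.toAlgebra
  haveI : IsLocalHom (algebraMap (Localization.AtPrime qL) (Localization.AtPrime Q)) :=
    Localization.isLocalHom_localRingHom _ _ _ rfl
  haveI : IsNoetherianRing (Localization.AtPrime Q) :=
    IsLocalization.isNoetherianRing Q.primeCompl _ inferInstance
  haveI : IsNoetherianRing (Localization.AtPrime qL) :=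
    IsLocalization.isNoetherianRing qL.primeCompl _ inferInstance
  haveI : Module.Flat (Localization.AtPrime qL) (Localization.AtPrime Q) :=
    RingHom.Flat.localRingHom hflat Q qL rfl
  have hmax : (maximalIdeal (Localization.AtPrime qL)).map
      (algebraMap (Localization.AtPrime qL) (Localization.AtPrime Q)) = maximalIdeal (Localization.AtPrime Q) := by
    show Ideal.map ψ _ = _
    rw [← Localization.AtPrime.map_eq_maximalIdeal (I := Q), ← Localization.AtPrime.map_eq_maximalIdeal (I := qL),
      Ideal.map_map, show ψ.comp (algebraMap T (Localization.AtPrime qL)) =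
        (algebraMap (C ⊗[k] k') (Localization.AtPrime Q)).comp (algebraMap T (C ⊗[k] k')) from
        RingHom.ext fun t => Localization.localRingHom_to_map _ _ _ rfl t, ← Ideal.map_map, hQ]
  rw [gorenstein_flat_local_iff (Localization.AtPrime qL) (Localization.AtPrime Q),
    and_iff_left_of_imp (fun _ => ?_), isGorensteinLocalRing_atPrime_baseChange_iff k L C hL qL]
  · have hp : qL.comap (algebraMap C T) = Q.comap (algebraMap C (C ⊗[k] k')) := by
      rw [Ideal.comap_comap, ← IsScalarTower.algebraMap_eq]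
    have key : ∀ (p p' : Ideal C) [p.IsPrime] [p'.IsPrime], p = p' →
        (LocCoh.IsGorensteinLocalRing (Localization.AtPrime p) ↔
          LocCoh.IsGorensteinLocalRing (Localization.AtPrime p')) := by
      rintro p _ _ _ rfl; exact Iff.rfl
    exact key _ _ hp
  · haveI : Nontrivial (Localization.AtPrime Q ⧸ maximalIdeal (Localization.AtPrime Q)) :=
      Ideal.Quotient.nontrivial_iff.2 (maximalIdeal.isMaximal _).ne_top
    letI : Field (Localization.AtPrime Q ⧸ maximalIdeal (Localization.AtPrime Q)) := Ideal.Quotient.field _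
    refine (isGorensteinLocalRing_iff_of_ringEquiv (Ideal.quotEquivOfEq hmax)).2 ?_
    exact gorenstein_of_injective _ (Module.injective_of_isSemisimpleRing _ _)

end Groth.Agent.Goren15

namespace Groth.Agent.Goren15

set_option maxSynthPendingDepth 3 in
/-- Gorensteinness of a stalk of a scheme locally of finite type under any field extension. -/
theorem isGorensteinLocalRing_stalk_fieldExt_iff_of_lft {k K : Type u} [Field k] [Field K] [Algebra k K]
    {F G : Scheme.{u}} {p : F ⟶ Spec (CommRingCat.of k)} [LocallyOfFiniteType p]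
    {q : G ⟶ Spec (CommRingCat.of K)} {fst : G ⟶ F}
    (sq : IsPullback fst q p (Spec.map (CommRingCat.ofHom (algebraMap k K)))) (z : G) :
    LocCoh.IsGorensteinLocalRing (G.presheaf.stalk z) ↔
      LocCoh.IsGorensteinLocalRing (F.presheaf.stalk (fst z)) := by
  refine isGorensteinLocalRing_stalk_bc_iff sq z fun W hW Q _ => ?_
  letI : F.Over (Spec (CommRingCat.of k)) := ⟨p⟩
  letI := GeomRed.secAlgebra k F W
  haveI : LocallyOfFiniteType (Spec.map (CommRingCat.ofHom (algebraMap k Γ(F, W)))) := by
    rw [GeomRed.spec_secMap hW]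
    show LocallyOfFiniteType (hW.fromSpec ≫ p)
    infer_instance
  haveI : Algebra.FiniteType k Γ(F, W) :=
    RingHom.finiteType_algebraMap.1
      ((HasRingHomProperty.Spec_iff (P := @LocallyOfFiniteType)).1 ‹_›)
  exact isGorensteinLocalRing_atPrime_fieldExt_iff k K Γ(F, W) Q

/-- The Gorenstein condition on fibres of a morphism locally of finite type is stable and descends
under every base change. -/
theorem gorenstein_fibre_baseChange_of_lft {X Y X' Y' : Scheme.{u}} {f : X ⟶ Y} {g : Y' ⟶ Y}
    {f' : X' ⟶ Y'} {g' : X' ⟶ X} (hsq : IsPullback g' f' f g) [LocallyOfFiniteType f] (x' : X') :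
    LocCoh.IsGorensteinLocalRing ((f'.fiber (f' x')).presheaf.stalk (f'.asFiber x')) ↔
      LocCoh.IsGorensteinLocalRing ((f.fiber (f (g' x'))).presheaf.stalk (f.asFiber (g' x'))) := by
  letI := (g.residueFieldMap (f' x')).hom.toAlgebra
  have sq := isPullback_fiberToSpecResidueField_of_isPullback hsq (f' x')
  haveI : LocallyOfFiniteType (pullback.snd f (Y.fromSpecResidueField (g (f' x')))) :=
    MorphismProperty.pullback_snd _ _ inferInstance
  haveI : LocallyOfFiniteType (f.fiberToSpecResidueField (g (f' x'))) := this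
  refine (@isGorensteinLocalRing_stalk_fieldExt_iff_of_lft (Y.residueField (g (f' x')))
    (Y'.residueField (f' x')) _ _ _ (f.fiber (g (f' x'))) (f'.fiber (f' x'))
    (f.fiberToSpecResidueField (g (f' x'))) this _ _ sq (f'.asFiber x')).trans ?_
  have hy : f (g' x') = g (f' x') := by
    rw [← Scheme.Hom.comp_apply, hsq.w]; rfl
  have key : ∀ (y : Y) (w : f.fiber y), f (g' x') = y → f.fiberι y w = g' x' →
      (LocCoh.IsGorensteinLocalRing ((f.fiber y).presheaf.stalk w) ↔
        LocCoh.IsGorensteinLocalRing ((f.fiber (f (g' x'))).presheaf.stalk (f.asFiber (g' x')))) := by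
    rintro _ w rfl h
    rw [(f.fiberι (f (g' x'))).isEmbedding.injective (h.trans (f.fiberι_asFiber _).symm)]
  have key2 : ∀ μ : f'.fiber (f' x') ⟶ f.fiber (g (f' x')),
      μ ≫ f.fiberι (g (f' x')) = f'.fiberι (f' x') ≫ g' →
      (LocCoh.IsGorensteinLocalRing ((f.fiber (g (f' x'))).presheaf.stalk (μ (f'.asFiber x'))) ↔
        LocCoh.IsGorensteinLocalRing ((f.fiber (f (g' x'))).presheaf.stalk (f.asFiber (g' x')))) := by
    intro μ hμ
    refine key _ _ hy ?_
    rw [← Scheme.Hom.comp_apply, hμ, Scheme.Hom.comp_apply, f'.fiberι_asFiber]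
  exact key2 _ (pullback.lift_fst _ _ _)

/-- Gorenstein points of flat morphisms locally of finite type under any base change. -/
theorem isGorensteinAt_baseChange_iff_of_flat {X Y X' Y' : Scheme.{u}} (f : X ⟶ Y) [Flat f]
    [LocallyOfFiniteType f] (g : Y' ⟶ Y) (f' : X' ⟶ Y') (g' : X' ⟶ X) (hsq : IsPullback g' f' f g)
    (x' : X') : Dual3.IsGorensteinAt f' x' ↔ Dual3.IsGorensteinAt f (g' x') := by
  haveI : Flat f' := MorphismProperty.of_isPullback (P := @Flat) hsq ‹_›
  exact ⟨fun H => ⟨Flat.stalkMap f _, (gorenstein_fibre_baseChange_of_lft hsq x').1 H.2⟩,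
    fun H => ⟨Flat.stalkMap f' _, (gorenstein_fibre_baseChange_of_lft hsq x').2 H.2⟩⟩

end Groth.Agent.Goren15
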