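import Groth.Agent.Lib.Goren15.DepthZero
import Groth.Agent.S0343
import Mathlib.RingTheory.Ideal.Quotient.Operations

/-!
# The Gorenstein property along flat local homomorphisms
-/

universe u

open IsLocalRing TensorProduct

noncomputable section

namespace Groth.Agent.Goren15

variable {A B : Type u} [CommRing A] [CommRing B] [Algebra A B]

/-- Flatness of `B/IB` over `A/I`. -/
theorem flat_quotient (I : Ideal A) [Module.Flat A B] :
    Module.Flat (A ⧸ I) (B ⧸ I.map (algebraMap A B)) := by
  let e : (A ⧸ I) ⊗[A] B ≃ₗ[A] B ⧸ I.map (algebraMap A B) :=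
    (TensorProduct.comm A (A ⧸ I) B).trans
      ((Algebra.TensorProduct.quotIdealMapEquivTensorQuot B I).toLinearEquiv.symm.restrictScalars A)
  exact Module.Flat.of_linearEquiv
    (e.extendScalarsOfSurjective Ideal.Quotient.mk_surjective).symm

variable [IsLocalRing A] [IsNoetherianRing A] [IsLocalRing B] [IsNoetherianRing B]
  [IsLocalHom (algebraMap A B)] [Module.Flat A B]

theorem depth_self_formula :
    LocCoh.depth B B = LocCoh.depth A A + LocCoh.depth B (B ⊗[A] (A ⧸ maximalIdeal A)) := by
  rw [← FlatDepth.depth_tensor (R := A) (S := B) (N := B) A]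
  exact DepthLib.idealDepth_congr (AlgebraTensorModule.rid A B B).symm

/-- A flat local homomorphism: the target is Gorenstein iff the source and the closed fibre are. -/
theorem gorenstein_flat_local_iff (A : Type u) [CommRing A] [IsLocalRing A] [IsNoetherianRing A]
    (B : Type u) [CommRing B] [IsLocalRing B] [IsNoetherianRing B] [Algebra A B]
    [IsLocalHom (algebraMap A B)] [Module.Flat A B] :
    LocCoh.IsGorensteinLocalRing B ↔ (LocCoh.IsGorensteinLocalRing A ∧
      LocCoh.IsGorensteinLocalRing (B ⧸ (maximalIdeal A).map (algebraMap A B))) := by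
  obtain ⟨n, hn⟩ := DepthLib.exists_depth_eq_natCast (R := B) (M := B)
  induction n using Nat.strong_induction_on generalizing A B with
  | _ n ih =>
  obtain ⟨a, ha⟩ := DepthLib.exists_depth_eq_natCast (R := A) (M := A)
  have hform := depth_self_formula (A := A) (B := B)
  set J : Ideal B := (maximalIdeal A).map (algebraMap A B) with hJ
  have hJm : J ≤ maximalIdeal B := map_maximalIdeal_le _
  rcases Nat.eq_zero_or_pos a with rfl | hapos
  · haveI hnt : Nontrivial (B ⊗[A] (A ⧸ maximalIdeal A)) := FlatDepth.nontrivial_fibre B
    obtain ⟨c, hc⟩ := DepthLib.exists_depth_eq_natCast (R := B) (M := B ⊗[A] (A ⧸ maximalIdeal A))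
    rw [hn, ha, hc, Nat.cast_zero, zero_add, Nat.cast_inj] at hform
    subst hform
    let q : (B ⧸ J) ≃ₗ[B] B ⊗[A] (A ⧸ maximalIdeal A) :=
      (Algebra.TensorProduct.quotIdealMapEquivTensorQuot B (maximalIdeal A)).toLinearEquiv
    haveI : Nontrivial (B ⧸ J) := q.toEquiv.nontrivial
    haveI : IsLocalRing (B ⧸ J) :=
      IsLocalRing.of_surjective' (Ideal.Quotient.mk J) Ideal.Quotient.mk_surjective
    rcases Nat.eq_zero_or_pos n with rfl | hnpos
    · have hA0 : LocCoh.depth A A = 0 := by simpa using ha
      have hB0 : LocCoh.depth B B = 0 := by simpa using hn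
      constructor
      · intro hB
        have hBinj := (injective_and_artinian_of_gorenstein B hB0).1
        have hAinj := injective_of_flat_local A B hBinj
        haveI hA := gorenstein_of_injective A hAinj
        haveI := (injective_and_artinian_of_gorenstein A hA0).2
        exact ⟨hA, gorenstein_fibre_of_depth_zero A B hBinj⟩
      · rintro ⟨hA, hF⟩
        obtain ⟨hAinj, hAart⟩ := injective_and_artinian_of_gorenstein A hA0
        have hF0 : LocCoh.depth (B ⧸ J) (B ⧸ J) = 0 := by
          rw [← FlatDepth.depth_eq_of_surjective (A := B) (B ⧸ J) Ideal.Quotient.mk_surjective, LocCoh.depth,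
            DepthLib.idealDepth_congr q, ← LocCoh.depth, hc, Nat.cast_zero]
        haveI := (injective_and_artinian_of_gorenstein (B ⧸ J) hF0).2
        exact gorenstein_of_fibre_of_depth_zero A B hAinj
    · obtain ⟨y, hy, hreg⟩ := DepthLib.exists_isSMulRegular_of_one_le_idealDepth
        (DepthLib.smul_top_ne_top (M := B ⊗[A] (A ⧸ maximalIdeal A)) (maximalIdeal.isMaximal B).ne_top)
        (show (1 : ℕ∞) ≤ LocCoh.depth B (B ⊗[A] (A ⧸ maximalIdeal A)) by
          rw [hc]; exact_mod_cast hnpos)
      obtain ⟨hregB, hflat⟩ := FlatDepth.regular_flat_of_regular_fibre (R := A) (S := B) (N := B) hreg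
      let B' := B ⧸ Ideal.span {y}
      haveI : IsLocalRing B' := GorenLib.isLocalRing_quotient hy
      haveI : IsNoetherianRing B' := inferInstance
      haveI : Module.Flat A B' := by
        haveI := hflat
        exact Module.Flat.of_linearEquiv ((GorenLib.quotEquiv y).restrictScalars A).symm
      haveI : IsLocalHom (algebraMap A B') := by
        haveI : IsLocalHom (Ideal.Quotient.mk (Ideal.span {y})) :=
          IsLocalHom.of_surjective _ Ideal.Quotient.mk_surjective
        exact RingHom.isLocalHom_comp (Ideal.Quotient.mk (Ideal.span {y})) (algebraMap A B)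
      obtain ⟨m, rfl⟩ : ∃ m, n = m + 1 := ⟨n - 1, by omega⟩
      have hn' : LocCoh.depth B' B' = m := by
        have h := GorenLib.depth_quotient_add_one hy hregB
        rw [hn, Nat.cast_succ] at h
        exact le_antisymm ((ENat.add_le_add_iff_right ENat.one_ne_top).1 h.le)
          ((ENat.add_le_add_iff_right ENat.one_ne_top).1 h.ge)
      have hyF : IsSMulRegular (B ⧸ J) (Ideal.Quotient.mk J y) := fun u v huv => by
        refine q.injective (hreg ?_)
        show y • q u = y • q v
        rw [← map_smul, ← map_smul]
        exact congrArg q (by simpa [Algebra.smul_def] using huv)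
      have hyFm : Ideal.Quotient.mk J y ∈ maximalIdeal (B ⧸ J) := by
        haveI : IsLocalHom (Ideal.Quotient.mk J) := IsLocalHom.of_surjective _ Ideal.Quotient.mk_surjective
        rw [mem_maximalIdeal, map_mem_nonunits_iff, ← mem_maximalIdeal]
        exact hy
      let eF : B' ⧸ (maximalIdeal A).map (algebraMap A B') ≃+*
          (B ⧸ J) ⧸ Ideal.span {Ideal.Quotient.mk J y} :=
        ((Ideal.quotEquivOfEq (I := (maximalIdeal A).map (algebraMap A B'))
          (J := J.map (Ideal.Quotient.mk (Ideal.span {y})))
          (Ideal.map_map (algebraMap A B) (Ideal.Quotient.mk (Ideal.span {y}))).symm).trans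
          (DoubleQuot.quotQuotEquivComm (Ideal.span {y}) J)).trans
          (Ideal.quotEquivOfEq (by rw [Ideal.map_span, Set.image_singleton]))
      rw [Groth.Agent.S0343.result B y hy hregB, ih m (by omega) A B' hn',
        isGorensteinLocalRing_iff_of_ringEquiv eF,
        ← Groth.Agent.S0343.result (B ⧸ J) _ hyFm hyF]
  · obtain ⟨x, hx, hxreg⟩ := DepthLib.exists_isSMulRegular_of_one_le_idealDepth
      (DepthLib.smul_top_ne_top (M := A) (maximalIdeal.isMaximal A).ne_top)
      (show (1 : ℕ∞) ≤ LocCoh.depth A A by rw [ha]; exact_mod_cast hapos)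
    let φ := algebraMap A B
    have hx' : φ x ∈ maximalIdeal B := hJm (Ideal.mem_map_of_mem _ hx)
    have hxregB : IsSMulRegular B (φ x) := fun u v huv => by
      have hl : Function.Injective (LinearMap.lTensor B (LinearMap.mulLeft A x)) :=
        Module.Flat.lTensor_preserves_injective_linearMap _ (fun p r h => hxreg h)
      let r := TensorProduct.rid A B
      have key : ∀ z, r (LinearMap.lTensor B (LinearMap.mulLeft A x) z) = φ x • r z := fun z => by
        induction z using TensorProduct.induction_on with
        | zero => simp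
        | tmul b a => simp [r, φ, Algebra.smul_def, mul_assoc]
        | add a b ha hb => simp [map_add, smul_add, mul_add, ha, hb]
      refine r.symm.injective (hl (r.injective ?_))
      rw [key, key, r.apply_symm_apply, r.apply_symm_apply]
      exact huv
    let A' := A ⧸ Ideal.span {x}
    let B' := B ⧸ Ideal.span {φ x}
    haveI : IsLocalRing A' := GorenLib.isLocalRing_quotient hx
    haveI : IsLocalRing B' := GorenLib.isLocalRing_quotient hx'
    have hspan : (Ideal.span {x}).map φ = Ideal.span {φ x} := by rw [Ideal.map_span, Set.image_singleton]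
    let φ' : A' →+* B' := Ideal.quotientMap (Ideal.span {φ x}) φ (by rw [← Ideal.map_le_iff_le_comap, hspan])
    letI : Algebra A' B' := φ'.toAlgebra
    haveI : IsScalarTower A A' B' := IsScalarTower.of_algebraMap_eq fun c => rfl
    haveI : Module.Flat A' B' := by
      haveI := flat_quotient (B := B) (Ideal.span {x})
      exact Module.Flat.of_linearEquiv
        (((Ideal.quotientEquivAlgOfEq A hspan).toLinearEquiv).extendScalarsOfSurjective
          Ideal.Quotient.mk_surjective).symm
    haveI : IsLocalHom (algebraMap A' B') := by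
      refine ⟨fun c hc => ?_⟩
      obtain ⟨c, rfl⟩ := Ideal.Quotient.mk_surjective c
      haveI : IsLocalHom (Ideal.Quotient.mk (Ideal.span {φ x})) :=
        IsLocalHom.of_surjective _ Ideal.Quotient.mk_surjective
      have h1 : IsUnit (φ c) := isUnit_of_map_unit (Ideal.Quotient.mk (Ideal.span {φ x})) _ hc
      exact (isUnit_of_map_unit φ _ h1).map _
    obtain ⟨c, hc⟩ : ∃ c, n = c + 1 := by
      refine ⟨n - 1, ?_⟩
      have h1 : LocCoh.depth A A ≤ LocCoh.depth B B := hform ▸ le_self_add
      rw [ha, hn, Nat.cast_le] at h1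
      omega
    subst hc
    have hn' : LocCoh.depth B' B' = c := by
      have h := GorenLib.depth_quotient_add_one hx' hxregB
      rw [hn, Nat.cast_succ] at h
      exact le_antisymm ((ENat.add_le_add_iff_right ENat.one_ne_top).1 h.le)
        ((ENat.add_le_add_iff_right ENat.one_ne_top).1 h.ge)
    have hmA' : maximalIdeal A' = (maximalIdeal A).map (Ideal.Quotient.mk (Ideal.span {x})) :=
      (IsLocalRing.eq_maximalIdeal ((Ideal.map_eq_top_or_isMaximal_of_surjective _
        Ideal.Quotient.mk_surjective inferInstance).resolve_left fun h => by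
          haveI : IsLocalHom (Ideal.Quotient.mk (Ideal.span {x})) :=
            IsLocalHom.of_surjective _ Ideal.Quotient.mk_surjective
          have h1 := map_maximalIdeal_le (Ideal.Quotient.mk (Ideal.span {x}))
          rw [h, top_le_iff] at h1
          exact (maximalIdeal.isMaximal A').ne_top h1)).symm
    have hmap : (maximalIdeal A').map (algebraMap A' B') = J.map (Ideal.Quotient.mk (Ideal.span {φ x})) := by
      rw [hmA', Ideal.map_map, hJ, Ideal.map_map]
      rfl
    let eF : B' ⧸ (maximalIdeal A').map (algebraMap A' B') ≃+* B ⧸ J :=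
      (Ideal.quotEquivOfEq hmap).trans (DoubleQuot.quotQuotEquivQuotOfLE
        ((Ideal.span_singleton_le_iff_mem _).2 (Ideal.mem_map_of_mem _ hx)))
    rw [Groth.Agent.S0343.result B (φ x) hx' hxregB, ih c (by omega) A' B' hn',
      isGorensteinLocalRing_iff_of_ringEquiv eF, ← Groth.Agent.S0343.result A x hx hxreg]

end Groth.Agent.Goren15
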