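import Groth.Agent.Lib.Goren15.FieldExt
import Groth.Agent.Lib.CI2.Conormal
import Groth.Prelude.Def_LCI2

/-!
# Local complete intersections over Gorenstein rings are Gorenstein
-/

universe u

open IsLocalRing TensorProduct
open Groth.Agent.CanElt (KObj kd k0 range_kd_le)
open Groth.Agent.CI2

namespace Groth.Agent.Goren15

theorem finite_KObj (A : Type u) [CommRing A] :
    ∀ (l : List A) (n : ℕ), Module.Finite A (KObj A A l n)
  | [], 0 => inferInstanceAs (Module.Finite A A)
  | [], _ + 1 => inferInstanceAs (Module.Finite A PUnit.{u + 1})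
  | _ :: l, 0 => finite_KObj A l 0
  | f :: l, n + 1 => by
    haveI := finite_KObj A l (n + 1)
    haveI := finite_KObj A l n
    exact inferInstanceAs (Module.Finite A (KObj A A l (n + 1) × KObj A A l n))

theorem mem_ofList_iff {A : Type u} [CommRing A] (l : List A) (a : A) :
    a ∈ Ideal.ofList l ↔ ∃ z, k0 A A l (kd A A l 0 z) = a := by
  constructor
  · intro ha
    have h1 : a ∈ Submodule.span A (Set.range l.get) := by
      rw [Set.range_list_get]; exact ha
    obtain ⟨r, hr⟩ := (Submodule.mem_span_range_iff_exists_fun A).1 h1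
    exact ⟨deg1 l r, by rw [k0_kd_deg1]; simpa [smul_eq_mul] using hr⟩
  · rintro ⟨z, rfl⟩
    have := map_mem_smul_top (Ideal.ofList l) (k0 A A l).toLinearMap
      (range_kd_le A A l 0 ⟨z, rfl⟩)
    rwa [smul_eq_mul, Ideal.mul_top] at this

/-- The quotient of a Gorenstein local ring by a sequence in the maximal ideal with vanishing first
Koszul homology is Gorenstein. -/
theorem isGorensteinLocalRing_quotient_of_exact {A : Type u} [CommRing A] [hA : LocCoh.IsGorensteinLocalRing A] :
    ∀ (l : List A), (∀ x ∈ l, x ∈ maximalIdeal A) →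
      (∀ z, kd A A l 0 z = 0 → ∃ w, kd A A l 1 w = z) →
      LocCoh.IsGorensteinLocalRing (A ⧸ Ideal.ofList l)
  | [], _, _ => by
    exact (isGorensteinLocalRing_iff_of_ringEquiv
      ((RingEquiv.quotientBot A).symm.trans (Ideal.quotEquivOfEq Ideal.ofList_nil.symm))).1 hA
  | f :: l, hm, h => by
    have hf : f ∈ maximalIdeal A := hm f List.mem_cons_self
    haveI := finite_KObj A l 1
    have hl : ∀ z, kd A A l 0 z = 0 → ∃ w, kd A A l 1 w = z := by
      have hle : LinearMap.ker (kd A A l 0) ≤ LinearMap.range (kd A A l 1) := by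
        refine Submodule.le_of_le_smul_of_le_jacobson_bot (I := maximalIdeal A) (IsNoetherian.noetherian _)
          (IsLocalRing.jacobson_eq_maximalIdeal ⊥ bot_ne_top).ge ?_
        intro z hz
        obtain ⟨⟨w₁, w₂⟩, hw⟩ := h (z, 0) (by
          show kd A A l 0 z + f • (0 : KObj A A l 0) = 0
          rw [LinearMap.mem_ker.1 hz, smul_zero, add_zero])
        have h1 : kd A A l 1 w₁ + f • w₂ = z := congrArg Prod.fst hw
        have h2 : -(kd A A l 0 w₂) = 0 := congrArg Prod.snd hw
        rw [← h1]
        exact Submodule.add_mem_sup ⟨w₁, rfl⟩ (Submodule.smul_mem_smul hf (neg_eq_zero.1 h2))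
      exact fun z hz => hle hz
    haveI hG := isGorensteinLocalRing_quotient_of_exact l (fun x hx => hm x (List.mem_cons_of_mem f hx)) hl
    let q := Ideal.Quotient.mk (Ideal.ofList l)
    have hreg : IsSMulRegular (A ⧸ Ideal.ofList l) (q f) := by
      refine isSMulRegular_iff_right_eq_zero_of_smul.2 fun x hx => ?_
      obtain ⟨a, rfl⟩ := Ideal.Quotient.mk_surjective x
      rw [smul_eq_mul, ← map_mul, Ideal.Quotient.eq_zero_iff_mem, mem_ofList_iff] at hx
      obtain ⟨z, hz⟩ := hx
      obtain ⟨⟨w₁, w₂⟩, hw⟩ := h (z, -((k0 A A l).symm a)) (by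
        show kd A A l 0 z + f • -((k0 A A l).symm a) = 0
        apply (k0 A A l).injective
        rw [map_add, map_smul, map_neg, LinearEquiv.apply_symm_apply, hz, map_zero, smul_eq_mul]
        ring)
      have h2 : -(kd A A l 0 w₂) = -((k0 A A l).symm a) := congrArg Prod.snd hw
      rw [Ideal.Quotient.eq_zero_iff_mem, mem_ofList_iff]
      exact ⟨w₂, by rw [neg_inj.1 h2, LinearEquiv.apply_symm_apply]⟩
    haveI : IsLocalHom q := IsLocalHom.of_surjective _ Ideal.Quotient.mk_surjective
    have hqf : q f ∈ maximalIdeal (A ⧸ Ideal.ofList l) := fun hu => hf (isUnit_of_map_unit q f hu)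
    refine (isGorensteinLocalRing_iff_of_ringEquiv ((Ideal.quotEquivOfEq ?_).trans
      ((DoubleQuot.quotQuotEquivQuotSup (Ideal.ofList l) (Ideal.span {f})).trans (Ideal.quotEquivOfEq ?_)))).1
      ((Groth.Agent.S0343.result _ (q f) hqf hreg).1 hG)
    · rw [Ideal.map_span, Set.image_singleton]
    · rw [Ideal.ofList_cons, sup_comm]

/-- Polynomial rings in finitely many variables over Gorenstein rings are Gorenstein. -/
theorem isGorensteinRing_mvPolynomial (R : Type u) [CommRing R] [hR : LocCoh.IsGorensteinRing R] :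
    ∀ n : ℕ, LocCoh.IsGorensteinRing (MvPolynomial (Fin n) R)
  | 0 => isGorensteinRing_of_ringEquiv (MvPolynomial.isEmptyRingEquiv R (Fin 0)).symm
  | n + 1 => by
    haveI := isGorensteinRing_mvPolynomial R n
    haveI := isGorensteinRing_polynomial (MvPolynomial (Fin n) R)
    exact isGorensteinRing_of_ringEquiv (MvPolynomial.finSuccEquiv R n).symm.toRingEquiv

/-- Quotients of Gorenstein rings by Koszul regular ideals are Gorenstein. -/
theorem isGorensteinRing_of_surjective_koszulRegular {P B : Type u} [CommRing P] [CommRing B]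
    [hP : LocCoh.IsGorensteinRing P] (π : P →+* B) (hπ : Function.Surjective π)
    (h : LCI.IsKoszulRegularIdeal (RingHom.ker π)) : LocCoh.IsGorensteinRing B := by
  haveI : IsNoetherianRing B := isNoetherianRing_of_surjective P B π hπ
  refine ⟨fun q _ => ?_⟩
  let p := q.comap π
  obtain ⟨g, hg, l, hl, hspan⟩ := h ⟨p, inferInstance⟩ (Ideal.comap_mono bot_le)
  let G := Localization.Away g
  let L := Localization.AtPrime p
  have hle : Submonoid.powers g ≤ p.primeCompl := Submonoid.powers_le.2 hg
  letI : Algebra G L := (IsLocalization.map L (RingHom.id P) (M := Submonoid.powers g) (T := p.primeCompl)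
    (show Submonoid.powers g ≤ p.primeCompl.comap (RingHom.id P) from hle) : G →+* L).toAlgebra
  haveI : IsScalarTower P G L := IsScalarTower.of_algebraMap_eq fun x => by
    rw [RingHom.algebraMap_toAlgebra, IsLocalization.map_eq]; rfl
  haveI : IsLocalization (p.primeCompl.map (algebraMap P G)) L :=
    IsLocalization.isLocalization_of_submonoid_le G L _ _ hle
  have hex := Ex.localization (B := L) (p.primeCompl.map (algebraMap P G)) ((isKoszulRegularSeq_iff_ex l).1 hl)
  have hIL : (RingHom.ker π).map (algebraMap P L) = Ideal.ofList (l.map (algebraMap G L)) := by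
    rw [IsScalarTower.algebraMap_eq P G L, ← Ideal.map_map, hspan, ← Ideal.map_ofList]
  have hm : ∀ x ∈ l.map (algebraMap G L), x ∈ maximalIdeal L := fun x hx => by
    have h1 : x ∈ (RingHom.ker π).map (algebraMap P L) := hIL ▸ Ideal.subset_span hx
    have h2 : (RingHom.ker π).map (algebraMap P L) ≤ maximalIdeal L := by
      rw [← Localization.AtPrime.map_eq_maximalIdeal]
      exact Ideal.map_mono (Ideal.comap_mono bot_le)
    exact h2 h1
  haveI := hP.isGorensteinLocalRing_localization p
  have hG := isGorensteinLocalRing_quotient_of_exact _ hm (hex 0)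
  obtain ⟨e⟩ := nonempty_localization_quotient_equiv π hπ q
  exact (isGorensteinLocalRing_iff_of_ringEquiv ((Ideal.quotEquivOfEq hIL.symm).trans e)).1 hG

/-- A local complete intersection over a Gorenstein ring is Gorenstein. -/
theorem isGorensteinRing_of_isLCI (A B : Type u) [CommRing A] [CommRing B] [Algebra A B]
    [LocCoh.IsGorensteinRing A] (h : LCI.IsLCI A B) : LocCoh.IsGorensteinRing B := by
  obtain ⟨-, n, f, hf, hI⟩ := h
  haveI := isGorensteinRing_mvPolynomial A n
  exact isGorensteinRing_of_surjective_koszulRegular f.toRingHom hf hI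

end Groth.Agent.Goren15
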