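import Groth.Agent.Lib.Goren15.FlatLocal
import Groth.Agent.Lib.Goren15.Equiv
import Groth.Agent.S0342
import Groth.Agent.S0343
import Mathlib.RingTheory.RegularLocalRing.Polynomial
import Mathlib.RingTheory.RingHom.Surjective
import Mathlib.RingTheory.Polynomial.Quotient

/-!
# Gorenstein rings: localization, polynomial rings, hypersurfaces
-/

universe u

open IsLocalRing Polynomial

noncomputable section

namespace Groth.Agent.Goren15

/-- Localizing a quotient is the quotient of the localization. -/
theorem nonempty_localization_quotient_equiv {R B : Type u} [CommRing R] [CommRing B] (π : R →+* B)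
    (hπ : Function.Surjective π) (P : Ideal B) [P.IsPrime] :
    Nonempty ((Localization.AtPrime (P.comap π) ⧸
      (RingHom.ker π).map (algebraMap R (Localization.AtPrime (P.comap π)))) ≃+*
        Localization.AtPrime P) := by
  let ψ := Localization.localRingHom (P.comap π) P π rfl
  have hk : RingHom.ker ψ = (RingHom.ker π).map (algebraMap R (Localization.AtPrime (P.comap π))) := by
    refine le_antisymm (fun x hx => ?_) (Ideal.map_le_iff_le_comap.2 fun a ha => ?_)
    · obtain ⟨a, s, rfl⟩ := IsLocalization.exists_mk'_eq (P.comap π).primeCompl x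
      rw [RingHom.mem_ker, Localization.localRingHom_mk', IsLocalization.mk'_eq_zero_iff] at hx
      obtain ⟨⟨t, ht⟩, hta⟩ := hx
      obtain ⟨t', rfl⟩ := hπ t
      rw [IsLocalization.mk'_mem_iff,
        ← Ideal.unit_mul_mem_iff_mem _ (IsLocalization.map_units _ (⟨t', ht⟩ : (P.comap π).primeCompl)),
        ← map_mul]
      refine Ideal.mem_map_of_mem _ ?_
      rw [RingHom.mem_ker, map_mul]
      exact hta
    · show ψ (algebraMap R _ a) = 0
      rw [Localization.localRingHom_to_map, RingHom.mem_ker.1 ha, map_zero]
  exact ⟨(Ideal.quotEquivOfEq hk.symm).trans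
    (RingHom.quotientKerEquivOfSurjective (RingHom.surjective_localRingHom_of_surjective π hπ P))⟩

/-- Gorenstein rings are stable under isomorphism and localization. -/
theorem isGorensteinRing_of_isLocalization {A B : Type u} [CommRing A] [CommRing B] [Algebra A B]
    (M : Submonoid A) [IsLocalization M B] [hA : LocCoh.IsGorensteinRing A] :
    LocCoh.IsGorensteinRing B := by
  haveI : IsNoetherianRing B := IsLocalization.isNoetherianRing M B inferInstance
  refine ⟨fun q _ => ?_⟩
  haveI : IsLocalization.AtPrime (Localization.AtPrime q) (q.comap (algebraMap A B)) :=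
    IsLocalization.isLocalization_isLocalization_atPrime_isLocalization M _ q
  exact (isGorensteinLocalRing_iff_of_ringEquiv (IsLocalization.algEquiv (q.comap (algebraMap A B)).primeCompl
    (Localization.AtPrime (q.comap (algebraMap A B))) (Localization.AtPrime q)).toRingEquiv).1
      (hA.isGorensteinLocalRing_localization _)

/-- A local ring at a prime of a polynomial ring over a Gorenstein local ring, lying over the
maximal ideal. -/
theorem isGorensteinLocalRing_polynomial (A : Type u) [CommRing A] [LocCoh.IsGorensteinLocalRing A]
    (Q : Ideal A[X]) [Q.IsPrime] (hQ : Q.comap C = maximalIdeal A) :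
    LocCoh.IsGorensteinLocalRing (Localization.AtPrime Q) := by
  haveI : Module.Flat A (Localization.AtPrime Q) := Module.Flat.trans A A[X] _
  haveI : IsLocalHom (algebraMap A (Localization.AtPrime Q)) := ⟨fun a ha => by
    rw [IsScalarTower.algebraMap_apply A A[X] (Localization.AtPrime Q),
      IsLocalization.AtPrime.isUnit_to_map_iff (Localization.AtPrime Q) Q] at ha
    by_contra hn
    exact ha (show a ∈ Q.comap C from hQ.symm ▸ hn)⟩
  rw [gorenstein_flat_local_iff A (Localization.AtPrime Q)]
  refine ⟨inferInstance, ?_⟩
  let π : A[X] →+* (ResidueField A)[X] := mapRingHom (residue A)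
  have hπ : Function.Surjective π := Polynomial.map_surjective _ residue_surjective
  have hker : RingHom.ker π = (maximalIdeal A).map C := by
    rw [Polynomial.ker_mapRingHom, ker_residue]
  have hle : RingHom.ker π ≤ Q := by
    rw [hker, ← hQ]; exact Ideal.map_comap_le
  haveI : (Q.map π).IsPrime := Ideal.map_isPrime_of_surjective hπ hle
  have hQ' : (Q.map π).comap π = Q := by
    rw [Ideal.comap_map_of_surjective π hπ, ← RingHom.ker_eq_comap_bot, sup_eq_left]
    exact hle
  have key : ∀ (Q₀ : Ideal A[X]) [Q₀.IsPrime], Q₀ = Q →
      Nonempty ((Localization.AtPrime Q₀ ⧸ (RingHom.ker π).map (algebraMap A[X] (Localization.AtPrime Q₀)))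
        ≃+* Localization.AtPrime (Q.map π)) →
      Nonempty ((Localization.AtPrime Q ⧸ (RingHom.ker π).map (algebraMap A[X] (Localization.AtPrime Q)))
        ≃+* Localization.AtPrime (Q.map π)) := by
    rintro _ _ rfl h; exact h
  obtain ⟨e⟩ := key _ hQ' (nonempty_localization_quotient_equiv π hπ (Q.map π))
  have hG : LocCoh.IsGorensteinLocalRing (Localization.AtPrime (Q.map π)) :=
    Groth.Agent.S0342.result _
  refine (isGorensteinLocalRing_iff_of_ringEquiv ((Ideal.quotEquivOfEq ?_).trans e)).2 hG
  rw [hker, Ideal.map_map]
  rfl

/-- Polynomial rings over Gorenstein rings are Gorenstein. -/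
theorem isGorensteinRing_polynomial (R : Type u) [CommRing R] [hR : LocCoh.IsGorensteinRing R] :
    LocCoh.IsGorensteinRing R[X] := by
  refine ⟨fun p hp => ?_⟩
  let q := p.comap C
  let S := (Localization.AtPrime q)[X]
  let pc := Submonoid.map Polynomial.C.toMonoidHom q.primeCompl
  let : Algebra R[X] S := algebra R (Localization.AtPrime q)
  have : IsLocalization pc S := Polynomial.isLocalization _ _
  let pS := p.map (algebraMap R[X] S)
  have disj : Disjoint (pc : Set R[X]) (p : Set R[X]) := by
    simpa [pc, q] using! Set.disjoint_image_left.mpr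
      (Set.disjoint_compl_left_iff_subset.mpr (fun _ a ↦ a))
  have : pS.IsPrime := IsLocalization.isPrime_of_isPrime_disjoint pc _ _ ‹_› disj
  have : IsLocalization.AtPrime (Localization.AtPrime pS) p := by
    convert IsLocalization.isLocalization_isLocalization_atPrime_isLocalization pc
      (Localization.AtPrime pS) pS
    exact (IsLocalization.under_map_of_isPrime_disjoint pc _ ‹_› disj).symm
  have := hR.isGorensteinLocalRing_localization q
  have eq : pS.comap C = maximalIdeal (Localization.AtPrime q) := by
    rw [← IsLocalization.map_under q.primeCompl _ (pS.comap C),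
      ← IsLocalization.map_under q.primeCompl _ (maximalIdeal (Localization.AtPrime q))]
    simp only [Ideal.comap_comap, S, pS]
    rw [← Polynomial.algebraMap_eq (R := Localization.AtPrime q),
      ← IsScalarTower.algebraMap_eq R (Localization.AtPrime q) (Localization.AtPrime q)[X],
      IsScalarTower.algebraMap_eq R R[X] (Localization.AtPrime q)[X], ← Ideal.comap_comap,
      ← Ideal.under_def R[X], IsLocalization.under_map_of_isPrime_disjoint pc _ ‹_› disj]
    simp [q, IsLocalization.AtPrime.under_maximalIdeal (Localization.AtPrime q) q]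
  exact (isGorensteinLocalRing_iff_of_ringEquiv (IsLocalization.algEquiv p.primeCompl
    (Localization.AtPrime pS) (Localization.AtPrime p)).toRingEquiv).1
      (isGorensteinLocalRing_polynomial _ pS eq)

/-- The quotient of a Gorenstein ring by a nonzerodivisor is Gorenstein. -/
theorem isGorensteinRing_of_surjective {R B : Type u} [CommRing R] [CommRing B]
    [hR : LocCoh.IsGorensteinRing R] (π : R →+* B) (hπ : Function.Surjective π) (f : R)
    (hker : RingHom.ker π = Ideal.span {f}) (hf : f ∈ nonZeroDivisors R) :
    LocCoh.IsGorensteinRing B := by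
  haveI : IsNoetherianRing B := isNoetherianRing_of_surjective R B π hπ
  refine ⟨fun P _ => ?_⟩
  obtain ⟨e⟩ := nonempty_localization_quotient_equiv π hπ P
  have := hR.isGorensteinLocalRing_localization (P.comap π)
  have hfm : algebraMap R (Localization.AtPrime (P.comap π)) f ∈ maximalIdeal _ := by
    rw [IsLocalization.AtPrime.to_map_mem_maximal_iff _ (P.comap π)]
    show π f ∈ P
    rw [RingHom.mem_ker.1 (hker.symm ▸ Ideal.mem_span_singleton_self f : f ∈ RingHom.ker π)]
    exact P.zero_mem
  have hreg : IsSMulRegular (Localization.AtPrime (P.comap π))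
      (algebraMap R (Localization.AtPrime (P.comap π)) f) :=
    isSMulRegular_iff_right_eq_zero_of_smul.2 fun x hx =>
      (mem_nonZeroDivisors_iff.1 (IsLocalization.map_nonZeroDivisors_le (P.comap π).primeCompl _
        (Submonoid.mem_map_of_mem _ hf))).1 x hx
  refine (isGorensteinLocalRing_iff_of_ringEquiv ((Ideal.quotEquivOfEq ?_).trans e)).1
    ((Groth.Agent.S0343.result _ _ hfm hreg).1 this)
  rw [hker, Ideal.map_span, Set.image_singleton]

/-- Adjoining a root of a monic polynomial preserves Gorenstein rings. -/
theorem isGorensteinRing_of_monic {R B : Type u} [CommRing R] [CommRing B]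
    [LocCoh.IsGorensteinRing R] (π : R[X] →+* B) (hπ : Function.Surjective π) (f : R[X])
    (hf : f.Monic) (hker : RingHom.ker π = Ideal.span {f}) : LocCoh.IsGorensteinRing B :=
  haveI := isGorensteinRing_polynomial R
  isGorensteinRing_of_surjective π hπ f hker hf.mem_nonZeroDivisors

end Groth.Agent.Goren15
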