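import Groth.Agent.Lib.Goren15.Equiv
import Groth.Agent.Lib.InjHull.BaseChange27
import Groth.Agent.Lib.InjHull.Change
import Groth.Agent.Lib.FlatDepth.Fibre
import Mathlib.RingTheory.Flat.FaithfullyFlat.Basic

/-!
# Flat local homomorphisms and the Gorenstein property at depth zero
-/

universe u

open CategoryTheory IsLocalRing TensorProduct

noncomputable section

namespace Groth.Agent.Goren15

theorem gorenstein_of_injective (R : Type u) [CommRing R] [IsLocalRing R] [IsNoetherianRing R]
    (h : Module.Injective R R) : LocCoh.IsGorensteinLocalRing R :=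
  { exists_hasInjectiveDimensionLT :=
      ⟨1, injective_iff_hasInjectiveDimensionLT_one.1 ((Module.injective_iff_injective_object R R).1 h)⟩ }

theorem injective_and_artinian_of_gorenstein (R : Type u) [CommRing R] [h : LocCoh.IsGorensteinLocalRing R]
    (hd : LocCoh.depth R R = 0) : Module.Injective R R ∧ IsArtinianRing R := by
  obtain ⟨n, hn⟩ := h.exists_hasInjectiveDimensionLT
  have hinj := GorenLib.injective_of_depth_zero hd n (hasInjectiveDimensionLT_of_ge _ n (n + 1) n.le_succ)
  haveI : Ring.KrullDimLE 0 R := Ring.krullDimLE_zero_iff.2 fun I hI => by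
    rw [GorenLib.eq_maximalIdeal_of_injective hinj I]
    exact maximalIdeal.isMaximal R
  exact ⟨hinj, IsNoetherianRing.isArtinianRing_of_krullDimLE_zero⟩

variable (A B : Type u) [CommRing A] [IsLocalRing A] [IsNoetherianRing A]
  [CommRing B] [IsLocalRing B] [IsNoetherianRing B] [Algebra A B] [IsLocalHom (algebraMap A B)]
  [Module.Flat A B]

omit [IsNoetherianRing B] in
/-- Self-injectivity descends along flat local homomorphisms. -/
theorem injective_of_flat_local (hB : Module.Injective B B) : Module.Injective A A := by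
  haveI : Module.FaithfullyFlat A B := Module.FaithfullyFlat.of_flat_of_isLocalHom
  haveI hB' : Module.Injective B (B ⊗[A] A) :=
    InjHullLib.injective_of_linearEquiv (AlgebraTensorModule.rid A B B).symm hB
  refine Module.Baer.injective fun I g => ?_
  obtain ⟨eA, heA⟩ := InjHullLib.exists_homEquiv (A := A) (B := B) (E := A) A
  obtain ⟨eI, heI⟩ := InjHullLib.exists_homEquiv (A := A) (B := B) (E := A) I
  let r : (A →ₗ[A] A) →ₗ[A] (I →ₗ[A] A) := LinearMap.lcomp A A I.subtype
  have hcomm : ∀ z, eI (r.baseChange B z) = eA z ∘ₗ I.subtype.baseChange B := by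
    intro z
    induction z using TensorProduct.induction_on with
    | zero => simp
    | tmul b φ =>
      rw [LinearMap.baseChange_tmul, heI, heA, LinearMap.smul_comp, ← LinearMap.baseChange_comp]
      rfl
    | add a b ha hb => rw [map_add, map_add, ha, hb, map_add, LinearMap.add_comp]
  have hr : Function.Surjective (r.lTensor B) := by
    intro w
    obtain ⟨χ, hχ⟩ := hB'.out (I.subtype.baseChange B)
      (Module.Flat.lTensor_preserves_injective_linearMap I.subtype I.injective_subtype) (eI w)
    refine ⟨eA.symm χ, eI.injective ?_⟩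
    show eI (r.baseChange B (eA.symm χ)) = eI w
    rw [hcomm, LinearEquiv.apply_symm_apply]
    exact LinearMap.ext hχ
  obtain ⟨φ, hφ⟩ := (Module.FaithfullyFlat.lTensor_surjective_iff_surjective A B r).1 hr g
  exact ⟨φ, fun x hx => LinearMap.congr_fun hφ ⟨x, hx⟩⟩

/-- At depth zero the closed fibre of a flat local map into a Gorenstein ring is Gorenstein. -/
theorem gorenstein_fibre_of_depth_zero [LocCoh.IsGorensteinLocalRing A] [IsArtinianRing A]
    (hB : Module.Injective B B) :
    LocCoh.IsGorensteinLocalRing (B ⧸ (maximalIdeal A).map (algebraMap A B)) := by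
  set J : Ideal B := (maximalIdeal A).map (algebraMap A B) with hJ
  haveI : Nontrivial (B ⧸ J) :=
    Ideal.Quotient.nontrivial_iff.2 (map_maximalIdeal_lt_top (algebraMap A B)).ne
  haveI : IsLocalRing (B ⧸ J) := IsLocalRing.of_surjective' (Ideal.Quotient.mk J) Ideal.Quotient.mk_surjective
  obtain ⟨f, hf⟩ := InjHullLib.exists_essential_of_gorenstein_artinian A
  let q : (B ⧸ J) ≃ₗ[B] B ⊗[A] ResidueField A :=
    (Algebra.TensorProduct.quotIdealMapEquivTensorQuot B (maximalIdeal A)).toLinearEquiv
  let r : B ⊗[A] A ≃ₗ[B] B := AlgebraTensorModule.rid A B B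
  let i : (B ⧸ J) →ₗ[B] B := r.toLinearMap ∘ₗ f.baseChange B ∘ₗ q.toLinearMap
  have hi : Function.Injective i :=
    r.injective.comp ((Module.Flat.lTensor_preserves_injective_linearMap f hf.injective).comp q.injective)
  have hrange : LinearMap.range i = Submodule.torsionBySet B B (J : Set B) := by
    refine le_antisymm ?_ fun y hy => ?_
    · rintro _ ⟨z, rfl⟩
      rw [InjHullLib.mem_torsion_iff]
      intro b hb
      rw [← map_smul]
      have : b • z = 0 := by
        obtain ⟨z, rfl⟩ := Ideal.Quotient.mk_surjective z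
        exact Ideal.Quotient.eq_zero_iff_mem.2 (J.mul_mem_right z hb)
      rw [this, map_zero]
    · rw [InjHullLib.mem_torsion_iff] at hy
      obtain ⟨w, hw⟩ := InjHullLib.mem_range_baseChange_of_killed (B := B) hf (y := r.symm y) fun b hb => by
        rw [← map_smul, hy b hb, map_zero]
      exact ⟨q.symm w, by simp [i, hw]⟩
  let e : (B ⧸ J) ≃ₗ[B] Submodule.torsionBySet B B (J : Set B) :=
    (LinearEquiv.ofInjective i hi).trans (LinearEquiv.ofEq _ _ hrange)
  let eF : (B ⧸ J) ≃ₗ[B ⧸ J] Submodule.torsionBySet B B (J : Set B) :=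
    { e with
      map_smul' := fun c z => by
        obtain ⟨c, rfl⟩ := Ideal.Quotient.mk_surjective c
        rw [RingHom.id_apply, InjHullLib.mk_smul_torsion]
        exact e.map_smul c z }
  exact gorenstein_of_injective _
    (InjHullLib.injective_of_linearEquiv eF.symm (InjHullLib.injective_torsionBySet hB))

/-- At depth zero the target of a flat local map is Gorenstein if the source and the fibre are. -/
theorem gorenstein_of_fibre_of_depth_zero [LocCoh.IsGorensteinLocalRing A] [IsArtinianRing A]
    (hA : Module.Injective A A) [LocCoh.IsGorensteinLocalRing (B ⧸ (maximalIdeal A).map (algebraMap A B))]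
    [IsArtinianRing (B ⧸ (maximalIdeal A).map (algebraMap A B))] :
    LocCoh.IsGorensteinLocalRing B := by
  set J : Ideal B := (maximalIdeal A).map (algebraMap A B) with hJ
  obtain ⟨N, hN⟩ : ∃ N, maximalIdeal B ^ N ≤ J := by
    obtain ⟨N, hN⟩ := (isArtinianRing_iff_isNilpotent_maximalIdeal (B ⧸ J)).1 inferInstance
    haveI : IsLocalHom (Ideal.Quotient.mk J) := IsLocalHom.of_surjective _ Ideal.Quotient.mk_surjective
    refine ⟨N, fun x hx => Ideal.Quotient.eq_zero_iff_mem.1 ?_⟩
    have h1 : (maximalIdeal B).map (Ideal.Quotient.mk J) ≤ maximalIdeal (B ⧸ J) :=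
      map_maximalIdeal_le _
    have h2 : Ideal.Quotient.mk J x ∈ maximalIdeal (B ⧸ J) ^ N :=
      Ideal.pow_right_mono h1 N (Ideal.map_pow (Ideal.Quotient.mk J) _ N ▸ Ideal.mem_map_of_mem _ hx)
    rw [hN] at h2
    exact h2
  obtain ⟨f, hf⟩ := InjHullLib.exists_essential_of_gorenstein_artinian A
  obtain ⟨g, hg⟩ := InjHullLib.exists_hull_baseChange (B := B) hN (InjHullLib.nonempty_socle_equiv_quotient B J)
    (f := f) ⟨hf, hA⟩
  exact gorenstein_of_injective B
    (InjHullLib.injective_of_linearEquiv (AlgebraTensorModule.rid A B B) hg.isInjective)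

end Groth.Agent.Goren15
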